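import Cfsg.Agent.Lib.SchurMult.TwoCollect

/-! Collector certificate for a Sylow `2`-subgroup of HS. -/

set_option autoImplicit false
set_option maxRecDepth 100000

namespace CfsgLib.HSMult

open CfsgLib.SchurMult

/-- Part of a collection table. -/
def tblHS_0_0 : Trie := (.node (.node (.node (.node (.node (.leaf 1) (.leaf 9007199254741249)) (.node (.leaf 4503599627370941) (.leaf 13510798882112189))) (.node (.node (.leaf 2251799813685625) (.leaf 11258999068426873)) (.node (.leaf 6755500996004501) (.leaf 15762700250745749)))) (.node (.node (.node (.leaf 1125899906842909) (.leaf 10133099161584157)) (.node (.leaf 5629575822592161) (.leaf 14636775077333409))) (.node (.node (.leaf 3377700308602933) (.leaf 12384899563344181)) (.node (.leaf 7881313939145177) (.leaf 16888513193886425))))) (.node (.node (.node (.node (.leaf 562949953421609) (.leaf 9570149208162857)) (.node (.leaf 5066629829482693) (.leaf 14073829084223941))) (.node (.node (.leaf 2814750391636049) (.leaf 11821949646377297)) (.node (.leaf 7318371661042669) (.leaf 16325570915782893)))) (.node (.node (.node (.leaf 1688930109116517)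 (.leaf 10696129363857765)) (.node (.leaf 6192539196555657) (.leaf 15199738451296905))) (.node (.node (.leaf 3940729720963917) (.leaf 12947928975704141)) (.node (.leaf 8444276858526449) (.leaf 17451476113267697))))))

/-- Part of a collection table. -/
def tblHS_0_1 : Trie := (.node (.node (.node (.node (.node (.leaf 35184372088992) (.leaf 9042383626830240)) (.node (.leaf 4538827291940124) (.leaf 13546026546681372))) (.node (.node (.leaf 2286984528591832) (.leaf 11294183783332056)) (.node (.leaf 6790711136285748) (.leaf 15797910391026996)))) (.node (.node (.node (.leaf 1161127570985148) (.leaf 10168326825726396)) (.node (.leaf 5664692009879296) (.leaf 14671891264619520))) (.node (.node (.leaf 3412927101974932) (.leaf 12420126356716180)) (.node (.leaf 7916567226852984) (.leaf 16923766481594232))))) (.node (.node (.node (.node (.leaf 598134673562504) (.leaf 9605333928302728)) (.node (.leaf 5101839984723556) (.leaf 14109039239464804))) (.node (.node (.leaf 2849934765515504) (.leaf 11857134020256752)) (.node (.leaf 7353599181354316) (.leaf 16360798436095564)))) (.node (.node (.node (.leaf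 1724140264262084) (.leaf 10731339519003332)) (.node (.leaf 6227654659069480) (.leaf 15234853913810728))) (.node (.node (.leaf 3975939659968748) (.leaf 12983138914709996)) (.node (.leaf 8479529954342736) (.leaf 17486729209082960))))))

/-- Part of a collection table. -/
def tblHS_0_2 : Trie := (.node (.node (.node (.node (.node (.leaf 70368744178091) (.leaf 9077567998919339)) (.node (.leaf 4574082723401239) (.leaf 13581281978142487))) (.node (.node (.leaf 2322169451438467) (.leaf 11329368706179715)) (.node (.leaf 6825871887953007) (.leaf 15833071142694255)))) (.node (.node (.node (.leaf 1196383002706359) (.leaf 10203582257447607)) (.node (.leaf 5699875946023947) (.leaf 14707075200765195))) (.node (.node (.leaf 3448182978032079) (.leaf 12455382232773327)) (.node (.leaf 7951695219572259) (.leaf 16958894474313507))))) (.node (.node (.node (.node (.leaf 633319599034835) (.leaf 9640518853776083)) (.node (.leaf 5137043683315263) (.leaf 14144242938056511))) (.node (.node (.leaf 2885118768488955) (.leaf 11892318023230203)) (.node (.leaf 7388853875649607) (.leaf 16396053130390855)))) (.node (.node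 (.node (.leaf 1759343962915231) (.leaf 10766543217656479)) (.node (.leaf 6262839105932915) (.leaf 15270038360674163))) (.node (.node (.leaf 4011143453782503) (.leaf 13018342708523751)) (.node (.leaf 8514632018979931) (.leaf 17521831273721179))))))

/-- Part of a collection table. -/
def tblHS_0_3 : Trie := (.node (.node (.node (.node (.node (.leaf 116621594821902) (.leaf 9123820849563150)) (.node (.leaf 4620155900041186) (.leaf 13627355154781410))) (.node (.node (.leaf 2368421959472934) (.leaf 11375621214213158)) (.node (.leaf 6871962085967258) (.leaf 15879161340708506)))) (.node (.node (.node (.leaf 1242456179578690) (.leaf 10249655434318914)) (.node (.leaf 5746142209086894) (.leaf 14753341463828142))) (.node (.node (.leaf 3494256393749818) (.leaf 12501455648491066)) (.node (.leaf 7997926241421190) (.leaf 17005125496161414))))) (.node (.node (.node (.node (.leaf 679572101826422) (.leaf 9686771356566646)) (.node (.leaf 5183124952537034) (.leaf 14190324207277258))) (.node (.node (.leaf 2931371469592414) (.leaf 11938570724332638)) (.node (.leaf 7434918464739250) (.leaf 16442117719479474))))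 (.node (.node (.node (.leaf 1805425231976298) (.leaf 10812624486716522)) (.node (.leaf 6309070671644118) (.leaf 15316269926385366))) (.node (.node (.leaf 4057225756808978) (.leaf 13064425011549202)) (.node (.leaf 8560897729697278) (.leaf 17568096984438526))))))

/-- Part of a collection table. -/
def tblHS_0_4 : Trie := (.node (.node (.node (.node (.node (.leaf 140737488355413) (.leaf 9147936743096661)) (.node (.leaf 4644360201984697) (.leaf 13651559456725945))) (.node (.node (.leaf 2392537472521005) (.leaf 11399736727261229)) (.node (.leaf 6896218084774801) (.leaf 15903417339515025)))) (.node (.node (.node (.leaf 1266660481192473) (.leaf 10273859735933721)) (.node (.leaf 5770257474325237) (.leaf 14777456729066485))) (.node (.node (.leaf 3518460353134897) (.leaf 12525659607876145)) (.node (.leaf 8022133197803917) (.leaf 17029332452545165))))) (.node (.node (.node (.node (.leaf 703687609631613) (.leaf 9710886864371837)) (.node (.leaf 5207389874192833) (.leaf 14214589128934081))) (.node (.node (.leaf 2955487879741445) (.leaf 11962687134482693)) (.node (.leaf 7459088218228969) (.leaf 16466287472970217))))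 (.node (.node (.node (.leaf 1829690153697633) (.leaf 10836889408438881)) (.node (.leaf 6333195188748765) (.leaf 15340394443490013))) (.node (.node (.leaf 4081489221619785) (.leaf 13088688476361033)) (.node (.leaf 8585070173604005) (.leaf 17592269428345253))))))

/-- Part of a collection table. -/
def tblHS_0_5 : Trie := (.node (.node (.node (.node (.node (.leaf 175964815370996) (.leaf 9183164070112244)) (.node (.leaf 4679544919731224) (.leaf 13686744174472472))) (.node (.node (.leaf 2427765138883468) (.leaf 11434964393623692)) (.node (.leaf 6931402460614448) (.leaf 15938601715354672)))) (.node (.node (.node (.leaf 1301845199037368) (.leaf 10309044453777592)) (.node (.leaf 5805554056736596) (.leaf 14812753311476820))) (.node (.node (.leaf 3553644192893072) (.leaf 12560843447634320)) (.node (.leaf 8057274814487596) (.leaf 17064474069228844))))) (.node (.node (.node (.node (.leaf 738915271816156) (.leaf 9746114526556380)) (.node (.leaf 5242574235565408) (.leaf 14249773490306656))) (.node (.node (.leaf 2990715198544036) (.leaf 11997914453285284)) (.node (.leaf 7494272788597832) (.leaf 16501472043339080))))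 (.node (.node (.node (.leaf 1864874514970816) (.leaf 10872073769712064)) (.node (.leaf 6368491035212924) (.leaf 15375690289954172))) (.node (.node (.leaf 4116674469790696) (.leaf 13123873724530920)) (.node (.leaf 8620211604492036) (.leaf 17627410859232260))))))

/-- Part of a collection table. -/
def tblHS_0_6 : Trie := (.node (.node (.node (.node (.node (.leaf 211220057370799) (.leaf 9218419312112047)) (.node (.leaf 4714776711394883) (.leaf 13721975966136131))) (.node (.node (.leaf 2463020227465351) (.leaf 11470219482206599)) (.node (.leaf 6966586469631547) (.leaf 15973785724372795)))) (.node (.node (.node (.leaf 1337076990638563) (.leaf 10344276245379811)) (.node (.leaf 5840667135878927) (.leaf 14847866390619151))) (.node (.node (.leaf 3588875813362075) (.leaf 12596075068103323)) (.node (.leaf 8092448273848103) (.leaf 17099647528588327))))) (.node (.node (.node (.node (.leaf 774170367746263) (.leaf 9781369622487511)) (.node (.leaf 5277757904827499) (.leaf 14284957159568747))) (.node (.node (.leaf 3025970079060223) (.leaf 12033169333801471)) (.node (.leaf 7529547873584147) (.leaf 16536747128325395))))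 (.node (.node (.node (.leaf 1900058184498123) (.leaf 10907257439238347)) (.node (.leaf 6403605051794807) (.leaf 15410804306536055))) (.node (.node (.leaf 4151858932014003) (.leaf 13159058186754227)) (.node (.leaf 8655410296915295) (.leaf 17662609551656543))))))

/-- Part of a collection table. -/
def tblHS_0_7 : Trie := (.node (.node (.node (.node (.node (.leaf 257294286968154) (.leaf 9264493541709402)) (.node (.leaf 4760973390286054) (.leaf 13768172645027302))) (.node (.node (.leaf 2509093407016306) (.leaf 11516292661757554)) (.node (.leaf 7012783335022238) (.leaf 16019982589763486)))) (.node (.node (.node (.leaf 1383273669559366) (.leaf 10390472924300614)) (.node (.leaf 5886854364301306) (.leaf 14894053619041530))) (.node (.node (.leaf 3635073338758718) (.leaf 12642272593499966)) (.node (.leaf 8138686808135634) (.leaf 17145886062875858))))) (.node (.node (.node (.node (.leaf 820243546752290) (.leaf 9827442801493538)) (.node (.leaf 5323920421309646) (.leaf 14331119676050894))) (.node (.node (.leaf 3072043826435850) (.leaf 12079243081176074)) (.node (.leaf 7575710179675318) (.leaf 16582909434416566))))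 (.node (.node (.node (.leaf 1946220700615790) (.leaf 10953419955357038)) (.node (.leaf 6449825875379586) (.leaf 15457025130120834))) (.node (.node (.leaf 4198020700390422) (.leaf 13205219955131670)) (.node (.leaf 8701615528941482) (.leaf 17708814783681706))))))

/-- Part of a collection table. -/
def tblHS_0_8 : Trie := (.node (.node (.node (.node (.node (.leaf 281474976711005) (.leaf 9288674231452253)) (.node (.leaf 4785168038494641) (.leaf 13792367293235889))) (.node (.node (.leaf 2533275522830709) (.leaf 11540474777571957)) (.node (.leaf 7036974536704457) (.leaf 16044173791445705)))) (.node (.node (.node (.leaf 1407468317966609) (.leaf 10414667572707857)) (.node (.leaf 5910995599950845) (.leaf 14918194854691069))) (.node (.node (.leaf 3659268702602089) (.leaf 12666467957342313)) (.node (.leaf 8162788527165909) (.leaf 17169987781907157))))) (.node (.node (.node (.node (.leaf 844425662566693) (.leaf 9851624917307941)) (.node (.leaf 5348103027803033) (.leaf 14355302282543257))) (.node (.node (.leaf 3096225005011725) (.leaf 12103424259751949)) (.node (.leaf 7599896380084705) (.leaf 16607095634825953))))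 (.node (.node (.node (.leaf 1970403307242297) (.leaf 10977602561982521)) (.node (.leaf 6473932561744261) (.leaf 15481131816485509))) (.node (.node (.leaf 4222203614778177) (.leaf 13229402869518401)) (.node (.leaf 8725751132639661) (.leaf 17732950387380909))))))

/-- Part of a collection table. -/
def tblHS_0_9 : Trie := (.node (.node (.node (.node (.node (.leaf 316702640845052) (.leaf 9323901895586300)) (.node (.leaf 4820284235506704) (.leaf 13827483490247952))) (.node (.node (.leaf 2568502305854164) (.leaf 11575701560595412)) (.node (.leaf 7072090388219496) (.leaf 16079289642960744)))) (.node (.node (.node (.leaf 1442584514816944) (.leaf 10449783769557168)) (.node (.leaf 5946291448100188) (.leaf 14953490702841436))) (.node (.node (.leaf 3694384167164872) (.leaf 12701583421905096)) (.node (.leaf 8198067928286580) (.leaf 17205267183027828))))) (.node (.node (.node (.node (.leaf 879652450857604) (.leaf 9886851705598852)) (.node (.leaf 5383218890122296) (.leaf 14390418144863544))) (.node (.node (.leaf 3131452530131116) (.leaf 12138651784872364)) (.node (.leaf 7635012583048768) (.leaf 16642211837790016))))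 (.node (.node (.node (.leaf 2005519169727384) (.leaf 11012718424467608)) (.node (.leaf 6509228608316708) (.leaf 15516427863057956))) (.node (.node (.leaf 4257319272946656) (.leaf 13264518527686880)) (.node (.leaf 8761030318966028) (.leaf 17768229573707276))))))

/-- Part of a collection table. -/
def tblHS_0_10 : Trie := (.node (.node (.node (.node (.node (.leaf 351958072582647) (.leaf 9359157327323895)) (.node (.leaf 4855468238761755) (.leaf 13862667493501979))) (.node (.node (.leaf 2603757913475727) (.leaf 11610957168216975)) (.node (.leaf 7107322530876979) (.leaf 16114521785618227)))) (.node (.node (.node (.leaf 1477768517806779) (.leaf 10484967772548027)) (.node (.leaf 5981405481201239) (.leaf 14988604735942487))) (.node (.node (.leaf 3729568615007123) (.leaf 12736767869747347)) (.node (.leaf 8233266617835311) (.leaf 17240465872575535))))) (.node (.node (.node (.node (.leaf 914908061104863) (.leaf 9922107315846111)) (.node (.leaf 5418493968170083) (.leaf 14425693222911331))) (.node (.node (.leaf 3166708281676711) (.leaf 12173907536416935)) (.node (.leaf 7670196954861387) (.leaf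 16677396209601611)))) (.node (.node (.node (.leaf 2040794247836611) (.leaf 11047993502576835)) (.node (.leaf 6544342103424895) (.leaf 15551541358165119))) (.node (.node (.leaf 4292593401301739) (.leaf 13299792656042987)) (.node (.leaf 8796204517494279) (.leaf 17803403772235527))))))

/-- Part of a collection table. -/
def tblHS_0_11 : Trie := (.node (.node (.node (.node (.node (.leaf 398031249442562) (.leaf 9405230504182786)) (.node (.leaf 4901700141812926) (.leaf 13908899396554174))) (.node (.node (.leaf 2649831608665210) (.leaf 11657030863406458)) (.node (.leaf 7153450468918678) (.leaf 16160649723659926)))) (.node (.node (.node (.leaf 1524000421020702) (.leaf 10531199675761950)) (.node (.leaf 6027591934527394) (.leaf 15034791189267618))) (.node (.node (.leaf 3775800175400758) (.leaf 12782999430140982)) (.node (.leaf 8279333731765466) (.leaf 17286532986506714))))) (.node (.node (.node (.node (.leaf 960981739996202) (.leaf 9968180994737450)) (.node (.leaf 5464587563063238) (.leaf 14471786817803462))) (.node (.node (.leaf 3212781474174802) (.leaf 12219980728915026)) (.node (.leaf 7716461993729774)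 (.leaf 16723661248471022)))) (.node (.node (.node (.leaf 2086887842633574) (.leaf 11094087097373798)) (.node (.leaf 6590563363720330) (.leaf 15597762618461578))) (.node (.node (.leaf 4338687313135182) (.leaf 13345886567876430)) (.node (.leaf 8842305615582706) (.leaf 17849504870323954))))))

/-- Part of a collection table. -/
def tblHS_0_12 : Trie := (.node (.node (.node (.node (.node (.leaf 422235551044185) (.leaf 9429434805785433)) (.node (.leaf 4925815341531621) (.leaf 13933014596272869))) (.node (.node (.leaf 2674035551126129) (.leaf 11681234805867377)) (.node (.leaf 7177621654311837) (.leaf 16184820909052061)))) (.node (.node (.node (.leaf 1548115620938053) (.leaf 10555314875679301)) (.node (.leaf 6051800207935737) (.leaf 15058999462676985))) (.node (.node (.leaf 3799916103684925) (.leaf 12807115358425149)) (.node (.leaf 8303593655933137) (.leaf 17310792910674385))))) (.node (.node (.node (.node (.leaf 985185699234337) (.leaf 9992384953975585)) (.node (.leaf 5488793446351309) (.leaf 14495992701092557))) (.node (.node (.leaf 3236985570971657) (.leaf 12244184825712905)) (.node (.leaf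 7740586634363317) (.leaf 16747785889104565)))) (.node (.node (.node (.leaf 2111093725725037) (.leaf 11118292980466285)) (.node (.leaf 6614737696688769) (.leaf 15621936951430017))) (.node (.node (.leaf 4362893848002837) (.leaf 13370093102744085)) (.node (.leaf 8866556801751209) (.leaf 17873756056492457))))))

/-- Part of a collection table. -/
def tblHS_0_13 : Trie := (.node (.node (.node (.node (.node (.leaf 457420268897272) (.leaf 9464619523637496)) (.node (.leaf 4961111916842564) (.leaf 13968311171583812))) (.node (.node (.leaf 2709219396805072) (.leaf 11716418651546320)) (.node (.leaf 7212900725407292) (.leaf 16220099980148540)))) (.node (.node (.node (.leaf 1583412196213220) (.leaf 10590611450954468)) (.node (.leaf 6086916725005400) (.leaf 15094115979746648))) (.node (.node (.leaf 3835211944223132) (.leaf 12842411198964380)) (.node (.leaf 8338709847060080) (.leaf 17345909101801328))))) (.node (.node (.node (.node (.leaf 1020369524998528) (.leaf 10027568779739776)) (.node (.leaf 5524072506641516) (.leaf 14531271761382764))) (.node (.node (.leaf 3272170159272872) (.leaf 12279369414013096))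 (.node (.leaf 7775883202542612) (.leaf 16783082457283860)))) (.node (.node (.node (.leaf 2146372786308044) (.leaf 11153572041048268)) (.node (.leaf 6649853338831904) (.leaf 15657052593573152))) (.node (.node (.leaf 4398172719063988) (.leaf 13405371973804212)) (.node (.leaf 8901672788438536) (.leaf 17908872043179784))))))

/-- Part of a collection table. -/
def tblHS_0_14 : Trie := (.node (.node (.node (.node (.node (.leaf 492652060494243) (.leaf 9499851315235491)) (.node (.leaf 4996225061000735) (.leaf 14003424315741983))) (.node (.node (.leaf 2744451017142491) (.leaf 11751650271883739)) (.node (.leaf 7248108863681847) (.leaf 16255308118423095)))) (.node (.node (.node (.leaf 1618525340309951) (.leaf 10625724595051199)) (.node (.leaf 6122156376622083) (.leaf 15129355631363331))) (.node (.node (.leaf 3870325969957527) (.leaf 12877525224698775)) (.node (.leaf 8373894229895035) (.leaf 17381093484635259))))) (.node (.node (.node (.node (.leaf 1055601151611019) (.leaf 10062800406352267)) (.node (.leaf 5559237366105959) (.leaf 14566436620846183))) (.node (.node (.leaf 3307401218681843) (.leaf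 12314600473422067)) (.node (.leaf 7810996707161679) (.leaf 16818195961902927)))) (.node (.node (.node (.leaf 2181537645380295) (.leaf 11188736900121543)) (.node (.leaf 6685118889236267) (.leaf 15692318143976491))) (.node (.node (.leaf 4433337318160879) (.leaf 13440536572902127)) (.node (.leaf 8936856638878803) (.leaf 17944055893620051))))))

/-- Part of a collection table. -/
def tblHS_0_15 : Trie := (.node (.node (.node (.node (.node (.leaf 538848739447814) (.leaf 9546047994189062)) (.node (.leaf 5042446578654442) (.leaf 14049645833395690))) (.node (.node (.leaf 2790648553133438) (.leaf 11797847807874686)) (.node (.leaf 7294175608969154) (.leaf 16301374863709378)))) (.node (.node (.node (.leaf 1664746857927754) (.leaf 10671946112669002)) (.node (.leaf 6168332109597862) (.leaf 15175531364339110))) (.node (.node (.leaf 3916546788542306) (.leaf 12923746043282530)) (.node (.leaf 8420069075716062) (.leaf 17427268330456286))))) (.node (.node (.node (.node (.leaf 1101798692869422) (.leaf 10108997947610670)) (.node (.leaf 5605338475009426) (.leaf 14612537729750674))) (.node (.node (.leaf 3353597883073622)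 (.leaf 12360797137814870)) (.node (.leaf 7857184088399546) (.leaf 16864383343140794)))) (.node (.node (.node (.leaf 2227638754514226) (.leaf 11234838009255474)) (.node (.leaf 6731303009338766) (.leaf 15738502264080014))) (.node (.node (.leaf 4479439205237786) (.leaf 13486638459979034)) (.node (.leaf 8983040425614582) (.leaf 17990239680355830))))))

/-- Part of a collection table. -/
def tblHS_1_0 : Trie := (.node (.node (.node (.node (.node (.leaf 2) (.leaf 17592186044498)) (.node (.leaf 8796093022694) (.leaf 26388294824374))) (.node (.node (.leaf 4398046511218) (.leaf 21990236229666)) (.node (.leaf 13224216156822) (.leaf 30816406928070)))) (.node (.node (.node (.leaf 2199023255826) (.leaf 19791218229570)) (.node (.leaf 11068131072678) (.leaf 28660322368246))) (.node (.node (.leaf 6597078958434) (.leaf 24189259747634)) (.node (.leaf 15487653954518) (.leaf 33079854150534))))) (.node (.node (.node (.node (.leaf 1099511628146) (.leaf 18691709751586)) (.node (.leaf 9994400469910) (.leaf 27586582868934))) (.node (.node (.leaf 5497570578690) (.leaf 23089748218194)) (.node (.leaf 14362382801638)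 (.leaf 31954569898678)))) (.node (.node (.node (.leaf 3298546942562) (.leaf 20890729845298)) (.node (.leaf 12120400644310) (.leaf 29712588273798))) (.node (.node (.leaf 7696590410258) (.leaf 25288775930434)) (.node (.leaf 16496978330534) (.leaf 34089161253878))))))

/-- Part of a collection table. -/
def tblHS_1_1 : Trie := (.node (.node (.node (.node (.node (.leaf 3) (.leaf 17592186044499)) (.node (.leaf 8796093022695) (.leaf 26388294824375))) (.node (.node (.leaf 4398046511219) (.leaf 21990236229667)) (.node (.leaf 13224216156823) (.leaf 30816406928071)))) (.node (.node (.node (.leaf 2199023255827) (.leaf 19791218229571)) (.node (.leaf 11068131072679) (.leaf 28660322368247))) (.node (.node (.leaf 6597078958435) (.leaf 24189259747635)) (.node (.leaf 15487653954519) (.leaf 33079854150535))))) (.node (.node (.node (.node (.leaf 1099511628147) (.leaf 18691709751587)) (.node (.leaf 9994400469911) (.leaf 27586582868935))) (.node (.node (.leaf 5497570578691) (.leaf 23089748218195)) (.node (.leaf 14362382801639) (.leaf 31954569898679)))) (.node (.node (.node (.leaf 3298546942563) (.leaf 20890729845299))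 (.node (.leaf 12120400644311) (.leaf 29712588273799))) (.node (.node (.leaf 7696590410259) (.leaf 25288775930435)) (.node (.leaf 16496978330535) (.leaf 34089161253879))))))

/-- Part of a collection table. -/
def tblHS_1_2 : Trie := (.node (.node (.node (.node (.node (.leaf 137438953732) (.leaf 17729633403220)) (.node (.leaf 9003325264816) (.leaf 26595525489632))) (.node (.node (.leaf 4535494132084) (.leaf 22127675445540)) (.node (.leaf 13431446755520) (.leaf 31023639095440)))) (.node (.node (.node (.leaf 2336470598164) (.leaf 19928657166916)) (.node (.leaf 11137932597488) (.leaf 28730126510240))) (.node (.node (.leaf 6734517633636) (.leaf 24326706827828)) (.node (.leaf 15557457121664) (.leaf 33149638996432))))) (.node (.node (.node (.node (.leaf 1236959249012) (.leaf 18829148967460)) (.node (.leaf 10064192115136) (.leaf 27656376082832))) (.node (.node (.leaf 5635009532420) (.leaf 23227195576916)) (.node (.leaf 14432175950000) (.leaf 32024364624096)))) (.node (.node (.node (.leaf 3435986174820) (.leaf 21028160672564)) (.node (.leaf 12327638571648) (.leaf 29919828818640))) (.node (.node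 (.leaf 7834020975380) (.leaf 25426214900548)) (.node (.leaf 16704202195440) (.leaf 34296403440032))))))

/-- Part of a collection table. -/
def tblHS_1_3 : Trie := (.node (.node (.node (.node (.node (.leaf 137438953733) (.leaf 17729633403221)) (.node (.leaf 9003325264817) (.leaf 26595525489633))) (.node (.node (.leaf 4535494132085) (.leaf 22127675445541)) (.node (.leaf 13431446755521) (.leaf 31023639095441)))) (.node (.node (.node (.leaf 2336470598165) (.leaf 19928657166917)) (.node (.leaf 11137932597489) (.leaf 28730126510241))) (.node (.node (.leaf 6734517633637) (.leaf 24326706827829)) (.node (.leaf 15557457121665) (.leaf 33149638996433))))) (.node (.node (.node (.node (.leaf 1236959249013) (.leaf 18829148967461)) (.node (.leaf 10064192115137) (.leaf 27656376082833))) (.node (.node (.leaf 5635009532421) (.leaf 23227195576917)) (.node (.leaf 14432175950001) (.leaf 32024364624097)))) (.node (.node (.node (.leaf 3435986174821) (.leaf 21028160672565)) (.node (.leaf 12327638571649) (.leaf 29919828818641))) (.node (.node (.leaf 7834020975381) (.leaf 25426214900549)) (.node (.leaf 16704202195441)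 (.leaf 34296403440033))))))

/-- Part of a collection table. -/
def tblHS_1_4 : Trie := (.node (.node (.node (.node (.node (.leaf 274877907286) (.leaf 17867074982150)) (.node (.leaf 9162247918562) (.leaf 26754432902066))) (.node (.node (.leaf 4672935776550) (.leaf 22265114464630)) (.node (.leaf 13547411966098) (.leaf 31139601688770)))) (.node (.node (.node (.leaf 2473912173126) (.leaf 20066096124438)) (.node (.leaf 11288248146082) (.leaf 28880439441650))) (.node (.node (.leaf 6871956656694) (.leaf 24464143225446)) (.node (.leaf 15682008629714) (.leaf 33274192048514))))) (.node (.node (.node (.node (.leaf 1374400893478) (.leaf 18966587986550)) (.node (.leaf 10180157358482) (.leaf 27772338676162))) (.node (.node (.leaf 5772448485974) (.leaf 23364631904774)) (.node (.leaf 14591080909026) (.leaf 32183268014258)))) (.node (.node (.node (.leaf 3573425197878) (.leaf 21165601264486)) (.node (.leaf 12452196371154) (.leaf 30044384000642))) (.node (.node (.leaf 7971461501766) (.leaf 25563653849878)) (.node (.leaf 16854534357410) (.leaf 34446717280754))))))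

/-- Part of a collection table. -/
def tblHS_1_5 : Trie := (.node (.node (.node (.node (.node (.leaf 274877907287) (.leaf 17867074982151)) (.node (.leaf 9162247918563) (.leaf 26754432902067))) (.node (.node (.leaf 4672935776551) (.leaf 22265114464631)) (.node (.leaf 13547411966099) (.leaf 31139601688771)))) (.node (.node (.node (.leaf 2473912173127) (.leaf 20066096124439)) (.node (.leaf 11288248146083) (.leaf 28880439441651))) (.node (.node (.leaf 6871956656695) (.leaf 24464143225447)) (.node (.leaf 15682008629715) (.leaf 33274192048515))))) (.node (.node (.node (.node (.leaf 1374400893479) (.leaf 18966587986551)) (.node (.leaf 10180157358483) (.leaf 27772338676163))) (.node (.node (.leaf 5772448485975) (.leaf 23364631904775)) (.node (.leaf 14591080909027) (.leaf 32183268014259)))) (.node (.node (.node (.leaf 3573425197879) (.leaf 21165601264487)) (.node (.leaf 12452196371155) (.leaf 30044384000643))) (.node (.node (.leaf 7971461501767) (.leaf 25563653849879)) (.node (.leaf 16854534357411) (.leaf 34446717280755))))))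

/-- Part of a collection table. -/
def tblHS_1_6 : Trie := (.node (.node (.node (.node (.node (.leaf 482112705280) (.leaf 18074307154768)) (.node (.leaf 9209486530788) (.leaf 26801675724980))) (.node (.node (.leaf 4880167883632) (.leaf 22472343946016)) (.node (.leaf 13637596791188) (.leaf 31229794886084)))) (.node (.node (.node (.leaf 2681144348688) (.leaf 20273329868864)) (.node (.leaf 11481532400036) (.leaf 29073715323380))) (.node (.node (.leaf 7079190335584) (.leaf 24671375327280)) (.node (.leaf 15901046135508) (.leaf 33493234805380))))) (.node (.node (.node (.node (.leaf 1581632999536) (.leaf 19173817466912)) (.node (.leaf 10407781108372) (.leaf 27999970831044))) (.node (.node (.leaf 5979678031872) (.leaf 23571864076368)) (.node (.leaf 14775771054564) (.leaf 32367953949108)))) (.node (.node (.node (.leaf 3780654682464) (.leaf 21372833366320)) (.node (.leaf 12533788627924) (.leaf 30125989864324))) (.node (.node (.leaf 8178693669136) (.leaf 25770888642880)) (.node (.leaf 16910362401444) (.leaf 34502553697012))))))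

/-- Part of a collection table. -/
def tblHS_1_7 : Trie := (.node (.node (.node (.node (.node (.leaf 482112705281) (.leaf 18074307154769)) (.node (.leaf 9209486530789) (.leaf 26801675724981))) (.node (.node (.leaf 4880167883633) (.leaf 22472343946017)) (.node (.leaf 13637596791189) (.leaf 31229794886085)))) (.node (.node (.node (.leaf 2681144348689) (.leaf 20273329868865)) (.node (.leaf 11481532400037) (.leaf 29073715323381))) (.node (.node (.leaf 7079190335585) (.leaf 24671375327281)) (.node (.leaf 15901046135509) (.leaf 33493234805381))))) (.node (.node (.node (.node (.leaf 1581632999537) (.leaf 19173817466913)) (.node (.leaf 10407781108373) (.leaf 27999970831045))) (.node (.node (.leaf 5979678031873) (.leaf 23571864076369)) (.node (.leaf 14775771054565) (.leaf 32367953949109)))) (.node (.node (.node (.leaf 3780654682465) (.leaf 21372833366321)) (.node (.leaf 12533788627925) (.leaf 30125989864325))) (.node (.node (.leaf 8178693669137) (.leaf 25770888642881)) (.node (.leaf 16910362401445) (.leaf 34502553697013))))))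

/-- Part of a collection table. -/
def tblHS_1_8 : Trie := (.node (.node (.node (.node (.node (.leaf 549755813982) (.leaf 18141944483854)) (.node (.leaf 9371258519994) (.leaf 26963440919018))) (.node (.node (.leaf 4947805016110) (.leaf 22539992109182)) (.node (.leaf 13756419918538) (.leaf 31348612266650)))) (.node (.node (.node (.leaf 2748781691214) (.leaf 20340974047518)) (.node (.leaf 11634705980154) (.leaf 29226899892906))) (.node (.node (.leaf 7146834841918) (.leaf 24739013005678)) (.node (.leaf 16028451328906) (.leaf 33620649948122))))) (.node (.node (.node (.node (.leaf 1649270133038) (.leaf 19241465631102)) (.node (.leaf 10526604231626) (.leaf 28118788207514))) (.node (.node (.leaf 6047326392670) (.leaf 23639501406478)) (.node (.leaf 14937530342074) (.leaf 32529720064746)))) (.node (.node (.node (.leaf 3848302826046) (.leaf 21440487297646)) (.node (.leaf 12661195921546) (.leaf 30253386168538))) (.node (.node (.leaf 8246347797070) (.leaf 25838531740190)) (.node (.leaf 17063536591866) (.leaf 34655737869226))))))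

/-- Part of a collection table. -/
def tblHS_1_9 : Trie := (.node (.node (.node (.node (.node (.leaf 549755813983) (.leaf 18141944483855)) (.node (.leaf 9371258519995) (.leaf 26963440919019))) (.node (.node (.leaf 4947805016111) (.leaf 22539992109183)) (.node (.leaf 13756419918539) (.leaf 31348612266651)))) (.node (.node (.node (.leaf 2748781691215) (.leaf 20340974047519)) (.node (.leaf 11634705980155) (.leaf 29226899892907))) (.node (.node (.leaf 7146834841919) (.leaf 24739013005679)) (.node (.leaf 16028451328907) (.leaf 33620649948123))))) (.node (.node (.node (.node (.leaf 1649270133039) (.leaf 19241465631103)) (.node (.leaf 10526604231627) (.leaf 28118788207515))) (.node (.node (.leaf 6047326392671) (.leaf 23639501406479)) (.node (.leaf 14937530342075) (.leaf 32529720064747)))) (.node (.node (.node (.leaf 3848302826047) (.leaf 21440487297647)) (.node (.leaf 12661195921547) (.leaf 30253386168539))) (.node (.node (.leaf 8246347797071) (.leaf 25838531740191)) (.node (.leaf 17063536591867) (.leaf 34655737869227))))))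

/-- Part of a collection table. -/
def tblHS_1_10 : Trie := (.node (.node (.node (.node (.node (.leaf 757158400008) (.leaf 18349344444504)) (.node (.leaf 9555399215804) (.leaf 27147589987052))) (.node (.node (.leaf 5155204911224) (.leaf 22747389378600)) (.node (.leaf 13983510987724) (.leaf 31575707546524)))) (.node (.node (.node (.leaf 2956181655832) (.leaf 20548375548232)) (.node (.leaf 11689997632508) (.leaf 29282194715564))) (.node (.node (.leaf 7354236277096) (.leaf 24946412896568)) (.node (.leaf 16109526632588) (.leaf 33701716879580))))) (.node (.node (.node (.node (.leaf 1856670028152) (.leaf 19448862867752)) (.node (.leaf 10616256383180) (.leaf 28208444536988))) (.node (.node (.leaf 6254723694856) (.leaf 23846901367128)) (.node (.leaf 14984244663228) (.leaf 32576426013676)))) (.node (.node (.node (.leaf 4055700099688) (.leaf 21647887188536)) (.node (.leaf 12879712272780) (.leaf 30471894114780))) (.node (.node (.leaf 8453747753496) (.leaf 26045934322248)) (.node (.leaf 17256283494652) (.leaf 34848473213100))))))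

/-- Part of a collection table. -/
def tblHS_1_11 : Trie := (.node (.node (.node (.node (.node (.leaf 757158400009) (.leaf 18349344444505)) (.node (.leaf 9555399215805) (.leaf 27147589987053))) (.node (.node (.leaf 5155204911225) (.leaf 22747389378601)) (.node (.leaf 13983510987725) (.leaf 31575707546525)))) (.node (.node (.node (.leaf 2956181655833) (.leaf 20548375548233)) (.node (.leaf 11689997632509) (.leaf 29282194715565))) (.node (.node (.leaf 7354236277097) (.leaf 24946412896569)) (.node (.leaf 16109526632589) (.leaf 33701716879581))))) (.node (.node (.node (.node (.leaf 1856670028153) (.leaf 19448862867753)) (.node (.leaf 10616256383181) (.leaf 28208444536989))) (.node (.node (.leaf 6254723694857) (.leaf 23846901367129)) (.node (.leaf 14984244663229) (.leaf 32576426013677)))) (.node (.node (.node (.leaf 4055700099689) (.leaf 21647887188537)) (.node (.leaf 12879712272781) (.leaf 30471894114781))) (.node (.node (.leaf 8453747753497) (.leaf 26045934322249)) (.node (.leaf 17256283494653) (.leaf 34848473213101))))))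

/-- Part of a collection table. -/
def tblHS_1_12 : Trie := (.node (.node (.node (.node (.node (.leaf 915910709850) (.leaf 18508098322954)) (.node (.leaf 9692667726062) (.leaf 27284861122750))) (.node (.node (.leaf 5313958855210) (.leaf 22906145948282)) (.node (.leaf 14120789594526) (.leaf 31712971960782)))) (.node (.node (.node (.leaf 3114935538506) (.leaf 20707111076634)) (.node (.leaf 11827266797998) (.leaf 29419466465790))) (.node (.node (.leaf 7512971871034) (.leaf 25105167893354)) (.node (.leaf 16246787906270) (.leaf 33838980770446))))) (.node (.node (.node (.node (.leaf 2015423972138) (.leaf 19607602660218)) (.node (.leaf 10753534958238) (.leaf 28345725729486))) (.node (.node (.leaf 6413463421786) (.leaf 24005656302346)) (.node (.leaf 15121518547438) (.leaf 32713697239486)))) (.node (.node (.node (.leaf 4214439886906) (.leaf 21806625407082)) (.node (.leaf 13016975643614) (.leaf 30609172718478))) (.node (.node (.leaf 8612485906506) (.leaf 26204669857818)) (.node (.leaf 17393552497326) (.leaf 34985743792894))))))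

/-- Part of a collection table. -/
def tblHS_1_13 : Trie := (.node (.node (.node (.node (.node (.leaf 915910709851) (.leaf 18508098322955)) (.node (.leaf 9692667726063) (.leaf 27284861122751))) (.node (.node (.leaf 5313958855211) (.leaf 22906145948283)) (.node (.leaf 14120789594527) (.leaf 31712971960783)))) (.node (.node (.node (.leaf 3114935538507) (.leaf 20707111076635)) (.node (.leaf 11827266797999) (.leaf 29419466465791))) (.node (.node (.leaf 7512971871035) (.leaf 25105167893355)) (.node (.leaf 16246787906271) (.leaf 33838980770447))))) (.node (.node (.node (.node (.leaf 2015423972139) (.leaf 19607602660219)) (.node (.leaf 10753534958239) (.leaf 28345725729487))) (.node (.node (.leaf 6413463421787) (.leaf 24005656302347)) (.node (.leaf 15121518547439) (.leaf 32713697239487)))) (.node (.node (.node (.leaf 4214439886907) (.leaf 21806625407083)) (.node (.leaf 13016975643615) (.leaf 30609172718479))) (.node (.node (.leaf 8612485906507) (.leaf 26204669857819)) (.node (.leaf 17393552497327) (.leaf 34985743792895))))))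

/-- Part of a collection table. -/
def tblHS_1_14 : Trie := (.node (.node (.node (.node (.node (.leaf 963694318428) (.leaf 18555869332236)) (.node (.leaf 9850677696696) (.leaf 27442869516520))) (.node (.node (.leaf 5361730126636) (.leaf 22953925624700)) (.node (.leaf 14235848249800) (.leaf 31828028023192)))) (.node (.node (.node (.leaf 3162706563148) (.leaf 20754894700572)) (.node (.leaf 11976695103992) (.leaf 29568875377064))) (.node (.node (.leaf 7560755232828) (.leaf 25152942850156)) (.node (.leaf 16370444896904) (.leaf 33962635143896))))) (.node (.node (.node (.node (.leaf 2063195242540) (.leaf 19655382335612)) (.node (.leaf 10868593646280) (.leaf 28460781791896))) (.node (.node (.leaf 6461242835036) (.leaf 24053431504908)) (.node (.leaf 15279524184504) (.leaf 32871704486376)))) (.node (.node (.node (.leaf 4262219546940) (.leaf 21854413472108)) (.node (.leaf 13140632634248) (.leaf 30732814509016))) (.node (.node (.leaf 8660273709388) (.leaf 26252453450012)) (.node (.leaf 17542964157176) (.leaf 35135153875624))))))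

/-- Part of a collection table. -/
def tblHS_1_15 : Trie := (.node (.node (.node (.node (.node (.leaf 963694318429) (.leaf 18555869332237)) (.node (.leaf 9850677696697) (.leaf 27442869516521))) (.node (.node (.leaf 5361730126637) (.leaf 22953925624701)) (.node (.leaf 14235848249801) (.leaf 31828028023193)))) (.node (.node (.node (.leaf 3162706563149) (.leaf 20754894700573)) (.node (.leaf 11976695103993) (.leaf 29568875377065))) (.node (.node (.leaf 7560755232829) (.leaf 25152942850157)) (.node (.leaf 16370444896905) (.leaf 33962635143897))))) (.node (.node (.node (.node (.leaf 2063195242541) (.leaf 19655382335613)) (.node (.leaf 10868593646281) (.leaf 28460781791897))) (.node (.node (.leaf 6461242835037) (.leaf 24053431504909)) (.node (.leaf 15279524184505) (.leaf 32871704486377)))) (.node (.node (.node (.leaf 4262219546941) (.leaf 21854413472109)) (.node (.leaf 13140632634249) (.leaf 30732814509017))) (.node (.node (.leaf 8660273709389) (.leaf 26252453450013)) (.node (.leaf 17542964157177) (.leaf 35135153875625))))))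

/-- Part of a collection table. -/
def tblHS_2_0 : Trie := (.node (.node (.node (.node (.node (.leaf 4) (.leaf 68719476996)) (.node (.leaf 34359738756) (.leaf 103079215748))) (.node (.node (.leaf 17179869204) (.leaf 85899346196)) (.node (.leaf 51539607956) (.leaf 120259084948)))) (.node (.node (.node (.leaf 8589934884) (.leaf 77309411876)) (.node (.leaf 42949675684) (.leaf 111669152676))) (.node (.node (.leaf 25779241268) (.leaf 94498718260)) (.node (.leaf 60138982068) (.leaf 128858459060))))) (.node (.node (.node (.node (.leaf 4294967364) (.leaf 73014444356)) (.node (.leaf 38654706116) (.leaf 107374183108))) (.node (.node (.leaf 21476933716) (.leaf 90196410708)) (.node (.leaf 55836672468) (.leaf 124556149460)))) (.node (.node (.node (.leaf 12884967780) (.leaf 81604444772)) (.node (.leaf 47244708580) (.leaf 115964185572))) (.node (.node (.leaf 30076371316) (.leaf 98795848308)) (.node (.leaf 64436112116) (.leaf 133155589108))))))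

/-- Part of a collection table. -/
def tblHS_2_1 : Trie := (.node (.node (.node (.node (.node (.leaf 5) (.leaf 68719476997)) (.node (.leaf 34359738757) (.leaf 103079215749))) (.node (.node (.leaf 17179869205) (.leaf 85899346197)) (.node (.leaf 51539607957) (.leaf 120259084949)))) (.node (.node (.node (.leaf 8589934885) (.leaf 77309411877)) (.node (.leaf 42949675685) (.leaf 111669152677))) (.node (.node (.leaf 25779241269) (.leaf 94498718261)) (.node (.leaf 60138982069) (.leaf 128858459061))))) (.node (.node (.node (.node (.leaf 4294967365) (.leaf 73014444357)) (.node (.leaf 38654706117) (.leaf 107374183109))) (.node (.node (.leaf 21476933717) (.leaf 90196410709)) (.node (.leaf 55836672469) (.leaf 124556149461)))) (.node (.node (.node (.leaf 12884967781) (.leaf 81604444773)) (.node (.leaf 47244708581) (.leaf 115964185573))) (.node (.node (.leaf 30076371317) (.leaf 98795848309)) (.node (.leaf 64436112117) (.leaf 133155589109))))))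

/-- Part of a collection table. -/
def tblHS_2_2 : Trie := (.node (.node (.node (.node (.node (.leaf 6) (.leaf 68719476998)) (.node (.leaf 34359738758) (.leaf 103079215750))) (.node (.node (.leaf 17179869206) (.leaf 85899346198)) (.node (.leaf 51539607958) (.leaf 120259084950)))) (.node (.node (.node (.leaf 8589934886) (.leaf 77309411878)) (.node (.leaf 42949675686) (.leaf 111669152678))) (.node (.node (.leaf 25779241270) (.leaf 94498718262)) (.node (.leaf 60138982070) (.leaf 128858459062))))) (.node (.node (.node (.node (.leaf 4294967366) (.leaf 73014444358)) (.node (.leaf 38654706118) (.leaf 107374183110))) (.node (.node (.leaf 21476933718) (.leaf 90196410710)) (.node (.leaf 55836672470) (.leaf 124556149462)))) (.node (.node (.node (.leaf 12884967782) (.leaf 81604444774)) (.node (.leaf 47244708582) (.leaf 115964185574))) (.node (.node (.leaf 30076371318) (.leaf 98795848310)) (.node (.leaf 64436112118) (.leaf 133155589110))))))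

/-- Part of a collection table. -/
def tblHS_2_3 : Trie := (.node (.node (.node (.node (.node (.leaf 7) (.leaf 68719476999)) (.node (.leaf 34359738759) (.leaf 103079215751))) (.node (.node (.leaf 17179869207) (.leaf 85899346199)) (.node (.leaf 51539607959) (.leaf 120259084951)))) (.node (.node (.node (.leaf 8589934887) (.leaf 77309411879)) (.node (.leaf 42949675687) (.leaf 111669152679))) (.node (.node (.leaf 25779241271) (.leaf 94498718263)) (.node (.leaf 60138982071) (.leaf 128858459063))))) (.node (.node (.node (.node (.leaf 4294967367) (.leaf 73014444359)) (.node (.leaf 38654706119) (.leaf 107374183111))) (.node (.node (.leaf 21476933719) (.leaf 90196410711)) (.node (.leaf 55836672471) (.leaf 124556149463)))) (.node (.node (.node (.leaf 12884967783) (.leaf 81604444775)) (.node (.leaf 47244708583) (.leaf 115964185575))) (.node (.node (.leaf 30076371319) (.leaf 98795848311)) (.node (.leaf 64436112119) (.leaf 133155589111))))))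

/-- Part of a collection table. -/
def tblHS_2_4 : Trie := (.node (.node (.node (.node (.node (.leaf 1073742160) (.leaf 69793219152)) (.node (.leaf 35433482960) (.leaf 104152959952))) (.node (.node (.leaf 18264621376) (.leaf 86984098368)) (.node (.leaf 52624362176) (.leaf 121343839168)))) (.node (.node (.node (.leaf 9664004720) (.leaf 78383481712)) (.node (.leaf 44023743472) (.leaf 112743219440))) (.node (.node (.leaf 26847543904) (.leaf 95567020896)) (.node (.leaf 61207282656) (.leaf 129926758624))))) (.node (.node (.node (.node (.leaf 5368729872) (.leaf 74088206864)) (.node (.leaf 39728470672) (.leaf 108447947664))) (.node (.node (.leaf 22557511936) (.leaf 91276988928)) (.node (.leaf 56917252736) (.leaf 125636729728)))) (.node (.node (.node (.leaf 13958926896) (.leaf 82678403888)) (.node (.leaf 48318665648) (.leaf 117038141616))) (.node (.node (.leaf 31140368928) (.leaf 99859845920)) (.node (.leaf 65500107680) (.leaf 134219583648))))))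

/-- Part of a collection table. -/
def tblHS_2_5 : Trie := (.node (.node (.node (.node (.node (.leaf 1073742161) (.leaf 69793219153)) (.node (.leaf 35433482961) (.leaf 104152959953))) (.node (.node (.leaf 18264621377) (.leaf 86984098369)) (.node (.leaf 52624362177) (.leaf 121343839169)))) (.node (.node (.node (.leaf 9664004721) (.leaf 78383481713)) (.node (.leaf 44023743473) (.leaf 112743219441))) (.node (.node (.leaf 26847543905) (.leaf 95567020897)) (.node (.leaf 61207282657) (.leaf 129926758625))))) (.node (.node (.node (.node (.leaf 5368729873) (.leaf 74088206865)) (.node (.leaf 39728470673) (.leaf 108447947665))) (.node (.node (.leaf 22557511937) (.leaf 91276988929)) (.node (.leaf 56917252737) (.leaf 125636729729)))) (.node (.node (.node (.leaf 13958926897) (.leaf 82678403889)) (.node (.leaf 48318665649) (.leaf 117038141617))) (.node (.node (.leaf 31140368929) (.leaf 99859845921)) (.node (.leaf 65500107681) (.leaf 134219583649))))))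

/-- Part of a collection table. -/
def tblHS_2_6 : Trie := (.node (.node (.node (.node (.node (.leaf 1073742162) (.leaf 69793219154)) (.node (.leaf 35433482962) (.leaf 104152959954))) (.node (.node (.leaf 18264621378) (.leaf 86984098370)) (.node (.leaf 52624362178) (.leaf 121343839170)))) (.node (.node (.node (.leaf 9664004722) (.leaf 78383481714)) (.node (.leaf 44023743474) (.leaf 112743219442))) (.node (.node (.leaf 26847543906) (.leaf 95567020898)) (.node (.leaf 61207282658) (.leaf 129926758626))))) (.node (.node (.node (.node (.leaf 5368729874) (.leaf 74088206866)) (.node (.leaf 39728470674) (.leaf 108447947666))) (.node (.node (.leaf 22557511938) (.leaf 91276988930)) (.node (.leaf 56917252738) (.leaf 125636729730)))) (.node (.node (.node (.leaf 13958926898) (.leaf 82678403890)) (.node (.leaf 48318665650) (.leaf 117038141618))) (.node (.node (.leaf 31140368930) (.leaf 99859845922)) (.node (.leaf 65500107682) (.leaf 134219583650))))))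

/-- Part of a collection table. -/
def tblHS_2_7 : Trie := (.node (.node (.node (.node (.node (.leaf 1073742163) (.leaf 69793219155)) (.node (.leaf 35433482963) (.leaf 104152959955))) (.node (.node (.leaf 18264621379) (.leaf 86984098371)) (.node (.leaf 52624362179) (.leaf 121343839171)))) (.node (.node (.node (.leaf 9664004723) (.leaf 78383481715)) (.node (.leaf 44023743475) (.leaf 112743219443))) (.node (.node (.leaf 26847543907) (.leaf 95567020899)) (.node (.leaf 61207282659) (.leaf 129926758627))))) (.node (.node (.node (.node (.leaf 5368729875) (.leaf 74088206867)) (.node (.leaf 39728470675) (.leaf 108447947667))) (.node (.node (.leaf 22557511939) (.leaf 91276988931)) (.node (.leaf 56917252739) (.leaf 125636729731)))) (.node (.node (.node (.leaf 13958926899) (.leaf 82678403891)) (.node (.leaf 48318665651) (.leaf 117038141619))) (.node (.node (.leaf 31140368931) (.leaf 99859845923)) (.node (.leaf 65500107683) (.leaf 134219583651))))))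

/-- Part of a collection table. -/
def tblHS_2_8 : Trie := (.node (.node (.node (.node (.node (.leaf 2147483996) (.leaf 70866960988)) (.node (.leaf 36507224796) (.leaf 105226701788))) (.node (.node (.leaf 19338363212) (.leaf 88057840204)) (.node (.leaf 53698104012) (.leaf 122417581004)))) (.node (.node (.node (.leaf 10737746556) (.leaf 79457223548)) (.node (.leaf 45097485308) (.leaf 113816961276))) (.node (.node (.leaf 27921285740) (.leaf 96640762732)) (.node (.leaf 62281024492) (.leaf 131000500460))))) (.node (.node (.node (.node (.leaf 6442471708) (.leaf 75161948700)) (.node (.leaf 40802212508) (.leaf 109521689500))) (.node (.node (.leaf 23631253772) (.leaf 92350730764)) (.node (.leaf 57990994572) (.leaf 126710471564)))) (.node (.node (.node (.leaf 15032668732) (.leaf 83752145724)) (.node (.leaf 49392407484) (.leaf 118111883452))) (.node (.node (.leaf 32214110764) (.leaf 100933587756)) (.node (.leaf 66573849516) (.leaf 135293325484))))))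

/-- Part of a collection table. -/
def tblHS_2_9 : Trie := (.node (.node (.node (.node (.node (.leaf 2147483997) (.leaf 70866960989)) (.node (.leaf 36507224797) (.leaf 105226701789))) (.node (.node (.leaf 19338363213) (.leaf 88057840205)) (.node (.leaf 53698104013) (.leaf 122417581005)))) (.node (.node (.node (.leaf 10737746557) (.leaf 79457223549)) (.node (.leaf 45097485309) (.leaf 113816961277))) (.node (.node (.leaf 27921285741) (.leaf 96640762733)) (.node (.leaf 62281024493) (.leaf 131000500461))))) (.node (.node (.node (.node (.leaf 6442471709) (.leaf 75161948701)) (.node (.leaf 40802212509) (.leaf 109521689501))) (.node (.node (.leaf 23631253773) (.leaf 92350730765)) (.node (.leaf 57990994573) (.leaf 126710471565)))) (.node (.node (.node (.leaf 15032668733) (.leaf 83752145725)) (.node (.leaf 49392407485) (.leaf 118111883453))) (.node (.node (.leaf 32214110765) (.leaf 100933587757)) (.node (.leaf 66573849517) (.leaf 135293325485))))))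

/-- Part of a collection table. -/
def tblHS_2_10 : Trie := (.node (.node (.node (.node (.node (.leaf 2147483998) (.leaf 70866960990)) (.node (.leaf 36507224798) (.leaf 105226701790))) (.node (.node (.leaf 19338363214) (.leaf 88057840206)) (.node (.leaf 53698104014) (.leaf 122417581006)))) (.node (.node (.node (.leaf 10737746558) (.leaf 79457223550)) (.node (.leaf 45097485310) (.leaf 113816961278))) (.node (.node (.leaf 27921285742) (.leaf 96640762734)) (.node (.leaf 62281024494) (.leaf 131000500462))))) (.node (.node (.node (.node (.leaf 6442471710) (.leaf 75161948702)) (.node (.leaf 40802212510) (.leaf 109521689502))) (.node (.node (.leaf 23631253774) (.leaf 92350730766)) (.node (.leaf 57990994574) (.leaf 126710471566)))) (.node (.node (.node (.leaf 15032668734) (.leaf 83752145726)) (.node (.leaf 49392407486) (.leaf 118111883454))) (.node (.node (.leaf 32214110766) (.leaf 100933587758)) (.node (.leaf 66573849518) (.leaf 135293325486))))))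

/-- Part of a collection table. -/
def tblHS_2_11 : Trie := (.node (.node (.node (.node (.node (.leaf 2147483999) (.leaf 70866960991)) (.node (.leaf 36507224799) (.leaf 105226701791))) (.node (.node (.leaf 19338363215) (.leaf 88057840207)) (.node (.leaf 53698104015) (.leaf 122417581007)))) (.node (.node (.node (.leaf 10737746559) (.leaf 79457223551)) (.node (.leaf 45097485311) (.leaf 113816961279))) (.node (.node (.leaf 27921285743) (.leaf 96640762735)) (.node (.leaf 62281024495) (.leaf 131000500463))))) (.node (.node (.node (.node (.leaf 6442471711) (.leaf 75161948703)) (.node (.leaf 40802212511) (.leaf 109521689503))) (.node (.node (.leaf 23631253775) (.leaf 92350730767)) (.node (.leaf 57990994575) (.leaf 126710471567)))) (.node (.node (.node (.leaf 15032668735) (.leaf 83752145727)) (.node (.leaf 49392407487) (.leaf 118111883455))) (.node (.node (.leaf 32214110767) (.leaf 100933587759)) (.node (.leaf 66573849519) (.leaf 135293325487))))))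

/-- Part of a collection table. -/
def tblHS_2_12 : Trie := (.node (.node (.node (.node (.node (.leaf 3936882696) (.leaf 72656359688)) (.node (.leaf 38296621448) (.leaf 107016098440))) (.node (.node (.leaf 21116751896) (.leaf 89836228888)) (.node (.leaf 55476490648) (.leaf 124195967640)))) (.node (.node (.node (.leaf 12526817576) (.leaf 81246294568)) (.node (.leaf 46886558376) (.leaf 115606035368))) (.node (.node (.leaf 29699346744) (.leaf 98418823736)) (.node (.leaf 64059087544) (.leaf 132778564536))))) (.node (.node (.node (.node (.leaf 8231850056) (.leaf 76951327048)) (.node (.leaf 42591588808) (.leaf 111311065800))) (.node (.node (.leaf 25409622104) (.leaf 94129099096)) (.node (.leaf 59769360856) (.leaf 128488837848)))) (.node (.node (.node (.leaf 16821850472) (.leaf 85541327464)) (.node (.leaf 51181591272) (.leaf 119901068264))) (.node (.node (.leaf 33992282488) (.leaf 102711759480)) (.node (.leaf 68352023288) (.leaf 137071500280))))))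

/-- Part of a collection table. -/
def tblHS_2_13 : Trie := (.node (.node (.node (.node (.node (.leaf 3936882697) (.leaf 72656359689)) (.node (.leaf 38296621449) (.leaf 107016098441))) (.node (.node (.leaf 21116751897) (.leaf 89836228889)) (.node (.leaf 55476490649) (.leaf 124195967641)))) (.node (.node (.node (.leaf 12526817577) (.leaf 81246294569)) (.node (.leaf 46886558377) (.leaf 115606035369))) (.node (.node (.leaf 29699346745) (.leaf 98418823737)) (.node (.leaf 64059087545) (.leaf 132778564537))))) (.node (.node (.node (.node (.leaf 8231850057) (.leaf 76951327049)) (.node (.leaf 42591588809) (.leaf 111311065801))) (.node (.node (.leaf 25409622105) (.leaf 94129099097)) (.node (.leaf 59769360857) (.leaf 128488837849)))) (.node (.node (.node (.leaf 16821850473) (.leaf 85541327465)) (.node (.leaf 51181591273) (.leaf 119901068265))) (.node (.node (.leaf 33992282489) (.leaf 102711759481)) (.node (.leaf 68352023289) (.leaf 137071500281))))))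

/-- Part of a collection table. -/
def tblHS_2_14 : Trie := (.node (.node (.node (.node (.node (.leaf 3936882698) (.leaf 72656359690)) (.node (.leaf 38296621450) (.leaf 107016098442))) (.node (.node (.leaf 21116751898) (.leaf 89836228890)) (.node (.leaf 55476490650) (.leaf 124195967642)))) (.node (.node (.node (.leaf 12526817578) (.leaf 81246294570)) (.node (.leaf 46886558378) (.leaf 115606035370))) (.node (.node (.leaf 29699346746) (.leaf 98418823738)) (.node (.leaf 64059087546) (.leaf 132778564538))))) (.node (.node (.node (.node (.leaf 8231850058) (.leaf 76951327050)) (.node (.leaf 42591588810) (.leaf 111311065802))) (.node (.node (.leaf 25409622106) (.leaf 94129099098)) (.node (.leaf 59769360858) (.leaf 128488837850)))) (.node (.node (.node (.leaf 16821850474) (.leaf 85541327466)) (.node (.leaf 51181591274) (.leaf 119901068266))) (.node (.node (.leaf 33992282490) (.leaf 102711759482)) (.node (.leaf 68352023290) (.leaf 137071500282))))))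

/-- Part of a collection table. -/
def tblHS_2_15 : Trie := (.node (.node (.node (.node (.node (.leaf 3936882699) (.leaf 72656359691)) (.node (.leaf 38296621451) (.leaf 107016098443))) (.node (.node (.leaf 21116751899) (.leaf 89836228891)) (.node (.leaf 55476490651) (.leaf 124195967643)))) (.node (.node (.node (.leaf 12526817579) (.leaf 81246294571)) (.node (.leaf 46886558379) (.leaf 115606035371))) (.node (.node (.leaf 29699346747) (.leaf 98418823739)) (.node (.leaf 64059087547) (.leaf 132778564539))))) (.node (.node (.node (.node (.leaf 8231850059) (.leaf 76951327051)) (.node (.leaf 42591588811) (.leaf 111311065803))) (.node (.node (.leaf 25409622107) (.leaf 94129099099)) (.node (.leaf 59769360859) (.leaf 128488837851)))) (.node (.node (.node (.leaf 16821850475) (.leaf 85541327467)) (.node (.leaf 51181591275) (.leaf 119901068267))) (.node (.node (.leaf 33992282491) (.leaf 102711759483)) (.node (.leaf 68352023291) (.leaf 137071500283))))))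

/-- Part of a collection table. -/
def tblHS_3_0 : Trie := (.node (.node (.node (.node (.node (.leaf 8) (.leaf 536871176)) (.node (.leaf 268435672) (.leaf 805306840))) (.node (.node (.leaf 134218056) (.leaf 671089224)) (.node (.leaf 413161880) (.leaf 950033048)))) (.node (.node (.node (.leaf 67109240) (.leaf 603980408)) (.node (.leaf 347625896) (.leaf 884497064))) (.node (.node (.leaf 201347640) (.leaf 738218808)) (.node (.leaf 471356136) (.leaf 1008227304))))) (.node (.node (.node (.node (.leaf 33554712) (.leaf 570425880)) (.node (.leaf 310921672) (.leaf 847792840))) (.node (.node (.leaf 167789144) (.leaf 704660312)) (.node (.leaf 438850184) (.leaf 975721352)))) (.node (.node (.node (.leaf 109855336) (.leaf 646726504)) (.node (.leaf 381440696) (.leaf 918311864))) (.node (.node (.leaf 244077352) (.leaf 780947496)) (.node (.leaf 505158648) (.leaf 1042028792))))))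

/-- Part of a collection table. -/
def tblHS_3_1 : Trie := (.node (.node (.node (.node (.node (.leaf 9) (.leaf 536871177)) (.node (.leaf 268435673) (.leaf 805306841))) (.node (.node (.leaf 134218057) (.leaf 671089225)) (.node (.leaf 413161881) (.leaf 950033049)))) (.node (.node (.node (.leaf 67109241) (.leaf 603980409)) (.node (.leaf 347625897) (.leaf 884497065))) (.node (.node (.leaf 201347641) (.leaf 738218809)) (.node (.leaf 471356137) (.leaf 1008227305))))) (.node (.node (.node (.node (.leaf 33554713) (.leaf 570425881)) (.node (.leaf 310921673) (.leaf 847792841))) (.node (.node (.leaf 167789145) (.leaf 704660313)) (.node (.leaf 438850185) (.leaf 975721353)))) (.node (.node (.node (.leaf 109855337) (.leaf 646726505)) (.node (.leaf 381440697) (.leaf 918311865))) (.node (.node (.leaf 244077353) (.leaf 780947497)) (.node (.leaf 505158649) (.leaf 1042028793))))))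

/-- Part of a collection table. -/
def tblHS_3_2 : Trie := (.node (.node (.node (.node (.node (.leaf 10) (.leaf 536871178)) (.node (.leaf 268435674) (.leaf 805306842))) (.node (.node (.leaf 134218058) (.leaf 671089226)) (.node (.leaf 413161882) (.leaf 950033050)))) (.node (.node (.node (.leaf 67109242) (.leaf 603980410)) (.node (.leaf 347625898) (.leaf 884497066))) (.node (.node (.leaf 201347642) (.leaf 738218810)) (.node (.leaf 471356138) (.leaf 1008227306))))) (.node (.node (.node (.node (.leaf 33554714) (.leaf 570425882)) (.node (.leaf 310921674) (.leaf 847792842))) (.node (.node (.leaf 167789146) (.leaf 704660314)) (.node (.leaf 438850186) (.leaf 975721354)))) (.node (.node (.node (.leaf 109855338) (.leaf 646726506)) (.node (.leaf 381440698) (.leaf 918311866))) (.node (.node (.leaf 244077354) (.leaf 780947498)) (.node (.leaf 505158650) (.leaf 1042028794))))))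

/-- Part of a collection table. -/
def tblHS_3_3 : Trie := (.node (.node (.node (.node (.node (.leaf 11) (.leaf 536871179)) (.node (.leaf 268435675) (.leaf 805306843))) (.node (.node (.leaf 134218059) (.leaf 671089227)) (.node (.leaf 413161883) (.leaf 950033051)))) (.node (.node (.node (.leaf 67109243) (.leaf 603980411)) (.node (.leaf 347625899) (.leaf 884497067))) (.node (.node (.leaf 201347643) (.leaf 738218811)) (.node (.leaf 471356139) (.leaf 1008227307))))) (.node (.node (.node (.node (.leaf 33554715) (.leaf 570425883)) (.node (.leaf 310921675) (.leaf 847792843))) (.node (.node (.leaf 167789147) (.leaf 704660315)) (.node (.leaf 438850187) (.leaf 975721355)))) (.node (.node (.node (.leaf 109855339) (.leaf 646726507)) (.node (.leaf 381440699) (.leaf 918311867))) (.node (.node (.leaf 244077355) (.leaf 780947499)) (.node (.leaf 505158651) (.leaf 1042028795))))))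

/-- Part of a collection table. -/
def tblHS_3_4 : Trie := (.node (.node (.node (.node (.node (.leaf 12) (.leaf 536871180)) (.node (.leaf 268435676) (.leaf 805306844))) (.node (.node (.leaf 134218060) (.leaf 671089228)) (.node (.leaf 413161884) (.leaf 950033052)))) (.node (.node (.node (.leaf 67109244) (.leaf 603980412)) (.node (.leaf 347625900) (.leaf 884497068))) (.node (.node (.leaf 201347644) (.leaf 738218812)) (.node (.leaf 471356140) (.leaf 1008227308))))) (.node (.node (.node (.node (.leaf 33554716) (.leaf 570425884)) (.node (.leaf 310921676) (.leaf 847792844))) (.node (.node (.leaf 167789148) (.leaf 704660316)) (.node (.leaf 438850188) (.leaf 975721356)))) (.node (.node (.node (.leaf 109855340) (.leaf 646726508)) (.node (.leaf 381440700) (.leaf 918311868))) (.node (.node (.leaf 244077356) (.leaf 780947500)) (.node (.leaf 505158652) (.leaf 1042028796))))))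

/-- Part of a collection table. -/
def tblHS_3_5 : Trie := (.node (.node (.node (.node (.node (.leaf 13) (.leaf 536871181)) (.node (.leaf 268435677) (.leaf 805306845))) (.node (.node (.leaf 134218061) (.leaf 671089229)) (.node (.leaf 413161885) (.leaf 950033053)))) (.node (.node (.node (.leaf 67109245) (.leaf 603980413)) (.node (.leaf 347625901) (.leaf 884497069))) (.node (.node (.leaf 201347645) (.leaf 738218813)) (.node (.leaf 471356141) (.leaf 1008227309))))) (.node (.node (.node (.node (.leaf 33554717) (.leaf 570425885)) (.node (.leaf 310921677) (.leaf 847792845))) (.node (.node (.leaf 167789149) (.leaf 704660317)) (.node (.leaf 438850189) (.leaf 975721357)))) (.node (.node (.node (.leaf 109855341) (.leaf 646726509)) (.node (.leaf 381440701) (.leaf 918311869))) (.node (.node (.leaf 244077357) (.leaf 780947501)) (.node (.leaf 505158653) (.leaf 1042028797))))))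

/-- Part of a collection table. -/
def tblHS_3_6 : Trie := (.node (.node (.node (.node (.node (.leaf 14) (.leaf 536871182)) (.node (.leaf 268435678) (.leaf 805306846))) (.node (.node (.leaf 134218062) (.leaf 671089230)) (.node (.leaf 413161886) (.leaf 950033054)))) (.node (.node (.node (.leaf 67109246) (.leaf 603980414)) (.node (.leaf 347625902) (.leaf 884497070))) (.node (.node (.leaf 201347646) (.leaf 738218814)) (.node (.leaf 471356142) (.leaf 1008227310))))) (.node (.node (.node (.node (.leaf 33554718) (.leaf 570425886)) (.node (.leaf 310921678) (.leaf 847792846))) (.node (.node (.leaf 167789150) (.leaf 704660318)) (.node (.leaf 438850190) (.leaf 975721358)))) (.node (.node (.node (.leaf 109855342) (.leaf 646726510)) (.node (.leaf 381440702) (.leaf 918311870))) (.node (.node (.leaf 244077358) (.leaf 780947502)) (.node (.leaf 505158654) (.leaf 1042028798))))))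

/-- Part of a collection table. -/
def tblHS_3_7 : Trie := (.node (.node (.node (.node (.node (.leaf 15) (.leaf 536871183)) (.node (.leaf 268435679) (.leaf 805306847))) (.node (.node (.leaf 134218063) (.leaf 671089231)) (.node (.leaf 413161887) (.leaf 950033055)))) (.node (.node (.node (.leaf 67109247) (.leaf 603980415)) (.node (.leaf 347625903) (.leaf 884497071))) (.node (.node (.leaf 201347647) (.leaf 738218815)) (.node (.leaf 471356143) (.leaf 1008227311))))) (.node (.node (.node (.node (.leaf 33554719) (.leaf 570425887)) (.node (.leaf 310921679) (.leaf 847792847))) (.node (.node (.leaf 167789151) (.leaf 704660319)) (.node (.leaf 438850191) (.leaf 975721359)))) (.node (.node (.node (.leaf 109855343) (.leaf 646726511)) (.node (.leaf 381440703) (.leaf 918311871))) (.node (.node (.leaf 244077359) (.leaf 780947503)) (.node (.leaf 505158655) (.leaf 1042028799))))))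

/-- Part of a collection table. -/
def tblHS_3_8 : Trie := (.node (.node (.node (.node (.node (.leaf 16777552) (.leaf 553648720)) (.node (.leaf 296245632) (.leaf 833116800))) (.node (.node (.leaf 151015952) (.leaf 687887120)) (.node (.leaf 419975872) (.leaf 956847040)))) (.node (.node (.node (.leaf 95244832) (.leaf 632116000)) (.node (.leaf 364729072) (.leaf 901600240))) (.node (.node (.leaf 229462880) (.leaf 766333024)) (.node (.leaf 488442800) (.leaf 1025312944))))) (.node (.node (.node (.node (.leaf 61342272) (.leaf 598213440)) (.node (.leaf 327684752) (.leaf 864555920))) (.node (.node (.leaf 195564288) (.leaf 732434432)) (.node (.leaf 455629776) (.leaf 992499920)))) (.node (.node (.node (.leaf 126423856) (.leaf 663294000)) (.node (.leaf 387013600) (.leaf 923883744))) (.node (.node (.leaf 260657264) (.leaf 797528432)) (.node (.leaf 531710112) (.leaf 1068581280))))))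

/-- Part of a collection table. -/
def tblHS_3_9 : Trie := (.node (.node (.node (.node (.node (.leaf 16777553) (.leaf 553648721)) (.node (.leaf 296245633) (.leaf 833116801))) (.node (.node (.leaf 151015953) (.leaf 687887121)) (.node (.leaf 419975873) (.leaf 956847041)))) (.node (.node (.node (.leaf 95244833) (.leaf 632116001)) (.node (.leaf 364729073) (.leaf 901600241))) (.node (.node (.leaf 229462881) (.leaf 766333025)) (.node (.leaf 488442801) (.leaf 1025312945))))) (.node (.node (.node (.node (.leaf 61342273) (.leaf 598213441)) (.node (.leaf 327684753) (.leaf 864555921))) (.node (.node (.leaf 195564289) (.leaf 732434433)) (.node (.leaf 455629777) (.leaf 992499921)))) (.node (.node (.node (.leaf 126423857) (.leaf 663294001)) (.node (.leaf 387013601) (.leaf 923883745))) (.node (.node (.leaf 260657265) (.leaf 797528433)) (.node (.leaf 531710113) (.leaf 1068581281))))))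

/-- Part of a collection table. -/
def tblHS_3_10 : Trie := (.node (.node (.node (.node (.node (.leaf 16777554) (.leaf 553648722)) (.node (.leaf 296245634) (.leaf 833116802))) (.node (.node (.leaf 151015954) (.leaf 687887122)) (.node (.leaf 419975874) (.leaf 956847042)))) (.node (.node (.node (.leaf 95244834) (.leaf 632116002)) (.node (.leaf 364729074) (.leaf 901600242))) (.node (.node (.leaf 229462882) (.leaf 766333026)) (.node (.leaf 488442802) (.leaf 1025312946))))) (.node (.node (.node (.node (.leaf 61342274) (.leaf 598213442)) (.node (.leaf 327684754) (.leaf 864555922))) (.node (.node (.leaf 195564290) (.leaf 732434434)) (.node (.leaf 455629778) (.leaf 992499922)))) (.node (.node (.node (.leaf 126423858) (.leaf 663294002)) (.node (.leaf 387013602) (.leaf 923883746))) (.node (.node (.leaf 260657266) (.leaf 797528434)) (.node (.leaf 531710114) (.leaf 1068581282))))))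

/-- Part of a collection table. -/
def tblHS_3_11 : Trie := (.node (.node (.node (.node (.node (.leaf 16777555) (.leaf 553648723)) (.node (.leaf 296245635) (.leaf 833116803))) (.node (.node (.leaf 151015955) (.leaf 687887123)) (.node (.leaf 419975875) (.leaf 956847043)))) (.node (.node (.node (.leaf 95244835) (.leaf 632116003)) (.node (.leaf 364729075) (.leaf 901600243))) (.node (.node (.leaf 229462883) (.leaf 766333027)) (.node (.leaf 488442803) (.leaf 1025312947))))) (.node (.node (.node (.node (.leaf 61342275) (.leaf 598213443)) (.node (.leaf 327684755) (.leaf 864555923))) (.node (.node (.leaf 195564291) (.leaf 732434435)) (.node (.leaf 455629779) (.leaf 992499923)))) (.node (.node (.node (.leaf 126423859) (.leaf 663294003)) (.node (.leaf 387013603) (.leaf 923883747))) (.node (.node (.leaf 260657267) (.leaf 797528435)) (.node (.leaf 531710115) (.leaf 1068581283))))))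

/-- Part of a collection table. -/
def tblHS_3_12 : Trie := (.node (.node (.node (.node (.node (.leaf 16777556) (.leaf 553648724)) (.node (.leaf 296245636) (.leaf 833116804))) (.node (.node (.leaf 151015956) (.leaf 687887124)) (.node (.leaf 419975876) (.leaf 956847044)))) (.node (.node (.node (.leaf 95244836) (.leaf 632116004)) (.node (.leaf 364729076) (.leaf 901600244))) (.node (.node (.leaf 229462884) (.leaf 766333028)) (.node (.leaf 488442804) (.leaf 1025312948))))) (.node (.node (.node (.node (.leaf 61342276) (.leaf 598213444)) (.node (.leaf 327684756) (.leaf 864555924))) (.node (.node (.leaf 195564292) (.leaf 732434436)) (.node (.leaf 455629780) (.leaf 992499924)))) (.node (.node (.node (.leaf 126423860) (.leaf 663294004)) (.node (.leaf 387013604) (.leaf 923883748))) (.node (.node (.leaf 260657268) (.leaf 797528436)) (.node (.leaf 531710116) (.leaf 1068581284))))))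

/-- Part of a collection table. -/
def tblHS_3_13 : Trie := (.node (.node (.node (.node (.node (.leaf 16777557) (.leaf 553648725)) (.node (.leaf 296245637) (.leaf 833116805))) (.node (.node (.leaf 151015957) (.leaf 687887125)) (.node (.leaf 419975877) (.leaf 956847045)))) (.node (.node (.node (.leaf 95244837) (.leaf 632116005)) (.node (.leaf 364729077) (.leaf 901600245))) (.node (.node (.leaf 229462885) (.leaf 766333029)) (.node (.leaf 488442805) (.leaf 1025312949))))) (.node (.node (.node (.node (.leaf 61342277) (.leaf 598213445)) (.node (.leaf 327684757) (.leaf 864555925))) (.node (.node (.leaf 195564293) (.leaf 732434437)) (.node (.leaf 455629781) (.leaf 992499925)))) (.node (.node (.node (.leaf 126423861) (.leaf 663294005)) (.node (.leaf 387013605) (.leaf 923883749))) (.node (.node (.leaf 260657269) (.leaf 797528437)) (.node (.leaf 531710117) (.leaf 1068581285))))))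

/-- Part of a collection table. -/
def tblHS_3_14 : Trie := (.node (.node (.node (.node (.node (.leaf 16777558) (.leaf 553648726)) (.node (.leaf 296245638) (.leaf 833116806))) (.node (.node (.leaf 151015958) (.leaf 687887126)) (.node (.leaf 419975878) (.leaf 956847046)))) (.node (.node (.node (.leaf 95244838) (.leaf 632116006)) (.node (.leaf 364729078) (.leaf 901600246))) (.node (.node (.leaf 229462886) (.leaf 766333030)) (.node (.leaf 488442806) (.leaf 1025312950))))) (.node (.node (.node (.node (.leaf 61342278) (.leaf 598213446)) (.node (.leaf 327684758) (.leaf 864555926))) (.node (.node (.leaf 195564294) (.leaf 732434438)) (.node (.leaf 455629782) (.leaf 992499926)))) (.node (.node (.node (.leaf 126423862) (.leaf 663294006)) (.node (.leaf 387013606) (.leaf 923883750))) (.node (.node (.leaf 260657270) (.leaf 797528438)) (.node (.leaf 531710118) (.leaf 1068581286))))))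

/-- Part of a collection table. -/
def tblHS_3_15 : Trie := (.node (.node (.node (.node (.node (.leaf 16777559) (.leaf 553648727)) (.node (.leaf 296245639) (.leaf 833116807))) (.node (.node (.leaf 151015959) (.leaf 687887127)) (.node (.leaf 419975879) (.leaf 956847047)))) (.node (.node (.node (.leaf 95244839) (.leaf 632116007)) (.node (.leaf 364729079) (.leaf 901600247))) (.node (.node (.leaf 229462887) (.leaf 766333031)) (.node (.leaf 488442807) (.leaf 1025312951))))) (.node (.node (.node (.node (.leaf 61342279) (.leaf 598213447)) (.node (.leaf 327684759) (.leaf 864555927))) (.node (.node (.leaf 195564295) (.leaf 732434439)) (.node (.leaf 455629783) (.leaf 992499927)))) (.node (.node (.node (.leaf 126423863) (.leaf 663294007)) (.node (.leaf 387013607) (.leaf 923883751))) (.node (.node (.leaf 260657271) (.leaf 797528439)) (.node (.leaf 531710119) (.leaf 1068581287))))))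

/-- Part of a collection table. -/
def tblHS_4_0 : Trie := (.node (.node (.node (.node (.node (.leaf 16) (.leaf 8388880)) (.node (.leaf 4194448) (.leaf 12583312))) (.node (.node (.leaf 2097232) (.leaf 10486096)) (.node (.leaf 6291664) (.leaf 14680528)))) (.node (.node (.node (.leaf 1048624) (.leaf 9437488)) (.node (.leaf 5243056) (.leaf 13631920))) (.node (.node (.leaf 3145840) (.leaf 11534704)) (.node (.leaf 7340272) (.leaf 15729136))))) (.node (.node (.node (.node (.leaf 524288) (.leaf 8913152)) (.node (.leaf 4718720) (.leaf 13107584))) (.node (.node (.leaf 2621504) (.leaf 11010368)) (.node (.leaf 6815936) (.leaf 15204800)))) (.node (.node (.node (.leaf 1572896) (.leaf 9961760)) (.node (.leaf 5767328) (.leaf 14156192))) (.node (.node (.leaf 3670112) (.leaf 12058976)) (.node (.leaf 7864544) (.leaf 16253408))))))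

/-- Part of a collection table. -/
def tblHS_4_1 : Trie := (.node (.node (.node (.node (.node (.leaf 17) (.leaf 8388881)) (.node (.leaf 4194449) (.leaf 12583313))) (.node (.node (.leaf 2097233) (.leaf 10486097)) (.node (.leaf 6291665) (.leaf 14680529)))) (.node (.node (.node (.leaf 1048625) (.leaf 9437489)) (.node (.leaf 5243057) (.leaf 13631921))) (.node (.node (.leaf 3145841) (.leaf 11534705)) (.node (.leaf 7340273) (.leaf 15729137))))) (.node (.node (.node (.node (.leaf 524289) (.leaf 8913153)) (.node (.leaf 4718721) (.leaf 13107585))) (.node (.node (.leaf 2621505) (.leaf 11010369)) (.node (.leaf 6815937) (.leaf 15204801)))) (.node (.node (.node (.leaf 1572897) (.leaf 9961761)) (.node (.leaf 5767329) (.leaf 14156193))) (.node (.node (.leaf 3670113) (.leaf 12058977)) (.node (.leaf 7864545) (.leaf 16253409))))))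

/-- Part of a collection table. -/
def tblHS_4_2 : Trie := (.node (.node (.node (.node (.node (.leaf 18) (.leaf 8388882)) (.node (.leaf 4194450) (.leaf 12583314))) (.node (.node (.leaf 2097234) (.leaf 10486098)) (.node (.leaf 6291666) (.leaf 14680530)))) (.node (.node (.node (.leaf 1048626) (.leaf 9437490)) (.node (.leaf 5243058) (.leaf 13631922))) (.node (.node (.leaf 3145842) (.leaf 11534706)) (.node (.leaf 7340274) (.leaf 15729138))))) (.node (.node (.node (.node (.leaf 524290) (.leaf 8913154)) (.node (.leaf 4718722) (.leaf 13107586))) (.node (.node (.leaf 2621506) (.leaf 11010370)) (.node (.leaf 6815938) (.leaf 15204802)))) (.node (.node (.node (.leaf 1572898) (.leaf 9961762)) (.node (.leaf 5767330) (.leaf 14156194))) (.node (.node (.leaf 3670114) (.leaf 12058978)) (.node (.leaf 7864546) (.leaf 16253410))))))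

/-- Part of a collection table. -/
def tblHS_4_3 : Trie := (.node (.node (.node (.node (.node (.leaf 19) (.leaf 8388883)) (.node (.leaf 4194451) (.leaf 12583315))) (.node (.node (.leaf 2097235) (.leaf 10486099)) (.node (.leaf 6291667) (.leaf 14680531)))) (.node (.node (.node (.leaf 1048627) (.leaf 9437491)) (.node (.leaf 5243059) (.leaf 13631923))) (.node (.node (.leaf 3145843) (.leaf 11534707)) (.node (.leaf 7340275) (.leaf 15729139))))) (.node (.node (.node (.node (.leaf 524291) (.leaf 8913155)) (.node (.leaf 4718723) (.leaf 13107587))) (.node (.node (.leaf 2621507) (.leaf 11010371)) (.node (.leaf 6815939) (.leaf 15204803)))) (.node (.node (.node (.leaf 1572899) (.leaf 9961763)) (.node (.leaf 5767331) (.leaf 14156195))) (.node (.node (.leaf 3670115) (.leaf 12058979)) (.node (.leaf 7864547) (.leaf 16253411))))))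

/-- Part of a collection table. -/
def tblHS_4_4 : Trie := (.node (.node (.node (.node (.node (.leaf 20) (.leaf 8388884)) (.node (.leaf 4194452) (.leaf 12583316))) (.node (.node (.leaf 2097236) (.leaf 10486100)) (.node (.leaf 6291668) (.leaf 14680532)))) (.node (.node (.node (.leaf 1048628) (.leaf 9437492)) (.node (.leaf 5243060) (.leaf 13631924))) (.node (.node (.leaf 3145844) (.leaf 11534708)) (.node (.leaf 7340276) (.leaf 15729140))))) (.node (.node (.node (.node (.leaf 524292) (.leaf 8913156)) (.node (.leaf 4718724) (.leaf 13107588))) (.node (.node (.leaf 2621508) (.leaf 11010372)) (.node (.leaf 6815940) (.leaf 15204804)))) (.node (.node (.node (.leaf 1572900) (.leaf 9961764)) (.node (.leaf 5767332) (.leaf 14156196))) (.node (.node (.leaf 3670116) (.leaf 12058980)) (.node (.leaf 7864548) (.leaf 16253412))))))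

/-- Part of a collection table. -/
def tblHS_4_5 : Trie := (.node (.node (.node (.node (.node (.leaf 21) (.leaf 8388885)) (.node (.leaf 4194453) (.leaf 12583317))) (.node (.node (.leaf 2097237) (.leaf 10486101)) (.node (.leaf 6291669) (.leaf 14680533)))) (.node (.node (.node (.leaf 1048629) (.leaf 9437493)) (.node (.leaf 5243061) (.leaf 13631925))) (.node (.node (.leaf 3145845) (.leaf 11534709)) (.node (.leaf 7340277) (.leaf 15729141))))) (.node (.node (.node (.node (.leaf 524293) (.leaf 8913157)) (.node (.leaf 4718725) (.leaf 13107589))) (.node (.node (.leaf 2621509) (.leaf 11010373)) (.node (.leaf 6815941) (.leaf 15204805)))) (.node (.node (.node (.leaf 1572901) (.leaf 9961765)) (.node (.leaf 5767333) (.leaf 14156197))) (.node (.node (.leaf 3670117) (.leaf 12058981)) (.node (.leaf 7864549) (.leaf 16253413))))))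

/-- Part of a collection table. -/
def tblHS_4_6 : Trie := (.node (.node (.node (.node (.node (.leaf 22) (.leaf 8388886)) (.node (.leaf 4194454) (.leaf 12583318))) (.node (.node (.leaf 2097238) (.leaf 10486102)) (.node (.leaf 6291670) (.leaf 14680534)))) (.node (.node (.node (.leaf 1048630) (.leaf 9437494)) (.node (.leaf 5243062) (.leaf 13631926))) (.node (.node (.leaf 3145846) (.leaf 11534710)) (.node (.leaf 7340278) (.leaf 15729142))))) (.node (.node (.node (.node (.leaf 524294) (.leaf 8913158)) (.node (.leaf 4718726) (.leaf 13107590))) (.node (.node (.leaf 2621510) (.leaf 11010374)) (.node (.leaf 6815942) (.leaf 15204806)))) (.node (.node (.node (.leaf 1572902) (.leaf 9961766)) (.node (.leaf 5767334) (.leaf 14156198))) (.node (.node (.leaf 3670118) (.leaf 12058982)) (.node (.leaf 7864550) (.leaf 16253414))))))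

/-- Part of a collection table. -/
def tblHS_4_7 : Trie := (.node (.node (.node (.node (.node (.leaf 23) (.leaf 8388887)) (.node (.leaf 4194455) (.leaf 12583319))) (.node (.node (.leaf 2097239) (.leaf 10486103)) (.node (.leaf 6291671) (.leaf 14680535)))) (.node (.node (.node (.leaf 1048631) (.leaf 9437495)) (.node (.leaf 5243063) (.leaf 13631927))) (.node (.node (.leaf 3145847) (.leaf 11534711)) (.node (.leaf 7340279) (.leaf 15729143))))) (.node (.node (.node (.node (.leaf 524295) (.leaf 8913159)) (.node (.leaf 4718727) (.leaf 13107591))) (.node (.node (.leaf 2621511) (.leaf 11010375)) (.node (.leaf 6815943) (.leaf 15204807)))) (.node (.node (.node (.leaf 1572903) (.leaf 9961767)) (.node (.leaf 5767335) (.leaf 14156199))) (.node (.node (.leaf 3670119) (.leaf 12058983)) (.node (.leaf 7864551) (.leaf 16253415))))))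

/-- Part of a collection table. -/
def tblHS_4_8 : Trie := (.node (.node (.node (.node (.node (.leaf 24) (.leaf 8388888)) (.node (.leaf 4194456) (.leaf 12583320))) (.node (.node (.leaf 2097240) (.leaf 10486104)) (.node (.leaf 6291672) (.leaf 14680536)))) (.node (.node (.node (.leaf 1048632) (.leaf 9437496)) (.node (.leaf 5243064) (.leaf 13631928))) (.node (.node (.leaf 3145848) (.leaf 11534712)) (.node (.leaf 7340280) (.leaf 15729144))))) (.node (.node (.node (.node (.leaf 524296) (.leaf 8913160)) (.node (.leaf 4718728) (.leaf 13107592))) (.node (.node (.leaf 2621512) (.leaf 11010376)) (.node (.leaf 6815944) (.leaf 15204808)))) (.node (.node (.node (.leaf 1572904) (.leaf 9961768)) (.node (.leaf 5767336) (.leaf 14156200))) (.node (.node (.leaf 3670120) (.leaf 12058984)) (.node (.leaf 7864552) (.leaf 16253416))))))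

/-- Part of a collection table. -/
def tblHS_4_9 : Trie := (.node (.node (.node (.node (.node (.leaf 25) (.leaf 8388889)) (.node (.leaf 4194457) (.leaf 12583321))) (.node (.node (.leaf 2097241) (.leaf 10486105)) (.node (.leaf 6291673) (.leaf 14680537)))) (.node (.node (.node (.leaf 1048633) (.leaf 9437497)) (.node (.leaf 5243065) (.leaf 13631929))) (.node (.node (.leaf 3145849) (.leaf 11534713)) (.node (.leaf 7340281) (.leaf 15729145))))) (.node (.node (.node (.node (.leaf 524297) (.leaf 8913161)) (.node (.leaf 4718729) (.leaf 13107593))) (.node (.node (.leaf 2621513) (.leaf 11010377)) (.node (.leaf 6815945) (.leaf 15204809)))) (.node (.node (.node (.leaf 1572905) (.leaf 9961769)) (.node (.leaf 5767337) (.leaf 14156201))) (.node (.node (.leaf 3670121) (.leaf 12058985)) (.node (.leaf 7864553) (.leaf 16253417))))))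

/-- Part of a collection table. -/
def tblHS_4_10 : Trie := (.node (.node (.node (.node (.node (.leaf 26) (.leaf 8388890)) (.node (.leaf 4194458) (.leaf 12583322))) (.node (.node (.leaf 2097242) (.leaf 10486106)) (.node (.leaf 6291674) (.leaf 14680538)))) (.node (.node (.node (.leaf 1048634) (.leaf 9437498)) (.node (.leaf 5243066) (.leaf 13631930))) (.node (.node (.leaf 3145850) (.leaf 11534714)) (.node (.leaf 7340282) (.leaf 15729146))))) (.node (.node (.node (.node (.leaf 524298) (.leaf 8913162)) (.node (.leaf 4718730) (.leaf 13107594))) (.node (.node (.leaf 2621514) (.leaf 11010378)) (.node (.leaf 6815946) (.leaf 15204810)))) (.node (.node (.node (.leaf 1572906) (.leaf 9961770)) (.node (.leaf 5767338) (.leaf 14156202))) (.node (.node (.leaf 3670122) (.leaf 12058986)) (.node (.leaf 7864554) (.leaf 16253418))))))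

/-- Part of a collection table. -/
def tblHS_4_11 : Trie := (.node (.node (.node (.node (.node (.leaf 27) (.leaf 8388891)) (.node (.leaf 4194459) (.leaf 12583323))) (.node (.node (.leaf 2097243) (.leaf 10486107)) (.node (.leaf 6291675) (.leaf 14680539)))) (.node (.node (.node (.leaf 1048635) (.leaf 9437499)) (.node (.leaf 5243067) (.leaf 13631931))) (.node (.node (.leaf 3145851) (.leaf 11534715)) (.node (.leaf 7340283) (.leaf 15729147))))) (.node (.node (.node (.node (.leaf 524299) (.leaf 8913163)) (.node (.leaf 4718731) (.leaf 13107595))) (.node (.node (.leaf 2621515) (.leaf 11010379)) (.node (.leaf 6815947) (.leaf 15204811)))) (.node (.node (.node (.leaf 1572907) (.leaf 9961771)) (.node (.leaf 5767339) (.leaf 14156203))) (.node (.node (.leaf 3670123) (.leaf 12058987)) (.node (.leaf 7864555) (.leaf 16253419))))))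

/-- Part of a collection table. -/
def tblHS_4_12 : Trie := (.node (.node (.node (.node (.node (.leaf 28) (.leaf 8388892)) (.node (.leaf 4194460) (.leaf 12583324))) (.node (.node (.leaf 2097244) (.leaf 10486108)) (.node (.leaf 6291676) (.leaf 14680540)))) (.node (.node (.node (.leaf 1048636) (.leaf 9437500)) (.node (.leaf 5243068) (.leaf 13631932))) (.node (.node (.leaf 3145852) (.leaf 11534716)) (.node (.leaf 7340284) (.leaf 15729148))))) (.node (.node (.node (.node (.leaf 524300) (.leaf 8913164)) (.node (.leaf 4718732) (.leaf 13107596))) (.node (.node (.leaf 2621516) (.leaf 11010380)) (.node (.leaf 6815948) (.leaf 15204812)))) (.node (.node (.node (.leaf 1572908) (.leaf 9961772)) (.node (.leaf 5767340) (.leaf 14156204))) (.node (.node (.leaf 3670124) (.leaf 12058988)) (.node (.leaf 7864556) (.leaf 16253420))))))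

/-- Part of a collection table. -/
def tblHS_4_13 : Trie := (.node (.node (.node (.node (.node (.leaf 29) (.leaf 8388893)) (.node (.leaf 4194461) (.leaf 12583325))) (.node (.node (.leaf 2097245) (.leaf 10486109)) (.node (.leaf 6291677) (.leaf 14680541)))) (.node (.node (.node (.leaf 1048637) (.leaf 9437501)) (.node (.leaf 5243069) (.leaf 13631933))) (.node (.node (.leaf 3145853) (.leaf 11534717)) (.node (.leaf 7340285) (.leaf 15729149))))) (.node (.node (.node (.node (.leaf 524301) (.leaf 8913165)) (.node (.leaf 4718733) (.leaf 13107597))) (.node (.node (.leaf 2621517) (.leaf 11010381)) (.node (.leaf 6815949) (.leaf 15204813)))) (.node (.node (.node (.leaf 1572909) (.leaf 9961773)) (.node (.leaf 5767341) (.leaf 14156205))) (.node (.node (.leaf 3670125) (.leaf 12058989)) (.node (.leaf 7864557) (.leaf 16253421))))))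

/-- Part of a collection table. -/
def tblHS_4_14 : Trie := (.node (.node (.node (.node (.node (.leaf 30) (.leaf 8388894)) (.node (.leaf 4194462) (.leaf 12583326))) (.node (.node (.leaf 2097246) (.leaf 10486110)) (.node (.leaf 6291678) (.leaf 14680542)))) (.node (.node (.node (.leaf 1048638) (.leaf 9437502)) (.node (.leaf 5243070) (.leaf 13631934))) (.node (.node (.leaf 3145854) (.leaf 11534718)) (.node (.leaf 7340286) (.leaf 15729150))))) (.node (.node (.node (.node (.leaf 524302) (.leaf 8913166)) (.node (.leaf 4718734) (.leaf 13107598))) (.node (.node (.leaf 2621518) (.leaf 11010382)) (.node (.leaf 6815950) (.leaf 15204814)))) (.node (.node (.node (.leaf 1572910) (.leaf 9961774)) (.node (.leaf 5767342) (.leaf 14156206))) (.node (.node (.leaf 3670126) (.leaf 12058990)) (.node (.leaf 7864558) (.leaf 16253422))))))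

/-- Part of a collection table. -/
def tblHS_4_15 : Trie := (.node (.node (.node (.node (.node (.leaf 31) (.leaf 8388895)) (.node (.leaf 4194463) (.leaf 12583327))) (.node (.node (.leaf 2097247) (.leaf 10486111)) (.node (.leaf 6291679) (.leaf 14680543)))) (.node (.node (.node (.leaf 1048639) (.leaf 9437503)) (.node (.leaf 5243071) (.leaf 13631935))) (.node (.node (.leaf 3145855) (.leaf 11534719)) (.node (.leaf 7340287) (.leaf 15729151))))) (.node (.node (.node (.node (.leaf 524303) (.leaf 8913167)) (.node (.leaf 4718735) (.leaf 13107599))) (.node (.node (.leaf 2621519) (.leaf 11010383)) (.node (.leaf 6815951) (.leaf 15204815)))) (.node (.node (.node (.leaf 1572911) (.leaf 9961775)) (.node (.leaf 5767343) (.leaf 14156207))) (.node (.node (.leaf 3670127) (.leaf 12058991)) (.node (.leaf 7864559) (.leaf 16253423))))))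

/-- Part of a collection table. -/
def tblHS_5_0 : Trie := (.node (.node (.node (.node (.node (.leaf 32) (.leaf 262432)) (.node (.leaf 131488) (.leaf 393888))) (.node (.node (.leaf 65632) (.leaf 328032)) (.node (.leaf 197088) (.leaf 459488)))) (.node (.node (.node (.leaf 32768) (.leaf 295168)) (.node (.leaf 164224) (.leaf 426624))) (.node (.node (.leaf 98368) (.leaf 360768)) (.node (.leaf 229824) (.leaf 492224))))) (.node (.node (.node (.node (.leaf 48) (.leaf 262448)) (.node (.leaf 131504) (.leaf 393904))) (.node (.node (.leaf 65648) (.leaf 328048)) (.node (.leaf 197104) (.leaf 459504)))) (.node (.node (.node (.leaf 32784) (.leaf 295184)) (.node (.leaf 164240) (.leaf 426640))) (.node (.node (.leaf 98384) (.leaf 360784)) (.node (.leaf 229840) (.leaf 492240))))))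

/-- Part of a collection table. -/
def tblHS_5_1 : Trie := (.node (.node (.node (.node (.node (.leaf 33) (.leaf 262433)) (.node (.leaf 131489) (.leaf 393889))) (.node (.node (.leaf 65633) (.leaf 328033)) (.node (.leaf 197089) (.leaf 459489)))) (.node (.node (.node (.leaf 32769) (.leaf 295169)) (.node (.leaf 164225) (.leaf 426625))) (.node (.node (.leaf 98369) (.leaf 360769)) (.node (.leaf 229825) (.leaf 492225))))) (.node (.node (.node (.node (.leaf 49) (.leaf 262449)) (.node (.leaf 131505) (.leaf 393905))) (.node (.node (.leaf 65649) (.leaf 328049)) (.node (.leaf 197105) (.leaf 459505)))) (.node (.node (.node (.leaf 32785) (.leaf 295185)) (.node (.leaf 164241) (.leaf 426641))) (.node (.node (.leaf 98385) (.leaf 360785)) (.node (.leaf 229841) (.leaf 492241))))))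

/-- Part of a collection table. -/
def tblHS_5_2 : Trie := (.node (.node (.node (.node (.node (.leaf 34) (.leaf 262434)) (.node (.leaf 131490) (.leaf 393890))) (.node (.node (.leaf 65634) (.leaf 328034)) (.node (.leaf 197090) (.leaf 459490)))) (.node (.node (.node (.leaf 32770) (.leaf 295170)) (.node (.leaf 164226) (.leaf 426626))) (.node (.node (.leaf 98370) (.leaf 360770)) (.node (.leaf 229826) (.leaf 492226))))) (.node (.node (.node (.node (.leaf 50) (.leaf 262450)) (.node (.leaf 131506) (.leaf 393906))) (.node (.node (.leaf 65650) (.leaf 328050)) (.node (.leaf 197106) (.leaf 459506)))) (.node (.node (.node (.leaf 32786) (.leaf 295186)) (.node (.leaf 164242) (.leaf 426642))) (.node (.node (.leaf 98386) (.leaf 360786)) (.node (.leaf 229842) (.leaf 492242))))))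

/-- Part of a collection table. -/
def tblHS_5_3 : Trie := (.node (.node (.node (.node (.node (.leaf 35) (.leaf 262435)) (.node (.leaf 131491) (.leaf 393891))) (.node (.node (.leaf 65635) (.leaf 328035)) (.node (.leaf 197091) (.leaf 459491)))) (.node (.node (.node (.leaf 32771) (.leaf 295171)) (.node (.leaf 164227) (.leaf 426627))) (.node (.node (.leaf 98371) (.leaf 360771)) (.node (.leaf 229827) (.leaf 492227))))) (.node (.node (.node (.node (.leaf 51) (.leaf 262451)) (.node (.leaf 131507) (.leaf 393907))) (.node (.node (.leaf 65651) (.leaf 328051)) (.node (.leaf 197107) (.leaf 459507)))) (.node (.node (.node (.leaf 32787) (.leaf 295187)) (.node (.leaf 164243) (.leaf 426643))) (.node (.node (.leaf 98387) (.leaf 360787)) (.node (.leaf 229843) (.leaf 492243))))))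

/-- Part of a collection table. -/
def tblHS_5_4 : Trie := (.node (.node (.node (.node (.node (.leaf 36) (.leaf 262436)) (.node (.leaf 131492) (.leaf 393892))) (.node (.node (.leaf 65636) (.leaf 328036)) (.node (.leaf 197092) (.leaf 459492)))) (.node (.node (.node (.leaf 32772) (.leaf 295172)) (.node (.leaf 164228) (.leaf 426628))) (.node (.node (.leaf 98372) (.leaf 360772)) (.node (.leaf 229828) (.leaf 492228))))) (.node (.node (.node (.node (.leaf 52) (.leaf 262452)) (.node (.leaf 131508) (.leaf 393908))) (.node (.node (.leaf 65652) (.leaf 328052)) (.node (.leaf 197108) (.leaf 459508)))) (.node (.node (.node (.leaf 32788) (.leaf 295188)) (.node (.leaf 164244) (.leaf 426644))) (.node (.node (.leaf 98388) (.leaf 360788)) (.node (.leaf 229844) (.leaf 492244))))))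

/-- Part of a collection table. -/
def tblHS_5_5 : Trie := (.node (.node (.node (.node (.node (.leaf 37) (.leaf 262437)) (.node (.leaf 131493) (.leaf 393893))) (.node (.node (.leaf 65637) (.leaf 328037)) (.node (.leaf 197093) (.leaf 459493)))) (.node (.node (.node (.leaf 32773) (.leaf 295173)) (.node (.leaf 164229) (.leaf 426629))) (.node (.node (.leaf 98373) (.leaf 360773)) (.node (.leaf 229829) (.leaf 492229))))) (.node (.node (.node (.node (.leaf 53) (.leaf 262453)) (.node (.leaf 131509) (.leaf 393909))) (.node (.node (.leaf 65653) (.leaf 328053)) (.node (.leaf 197109) (.leaf 459509)))) (.node (.node (.node (.leaf 32789) (.leaf 295189)) (.node (.leaf 164245) (.leaf 426645))) (.node (.node (.leaf 98389) (.leaf 360789)) (.node (.leaf 229845) (.leaf 492245))))))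

/-- Part of a collection table. -/
def tblHS_5_6 : Trie := (.node (.node (.node (.node (.node (.leaf 38) (.leaf 262438)) (.node (.leaf 131494) (.leaf 393894))) (.node (.node (.leaf 65638) (.leaf 328038)) (.node (.leaf 197094) (.leaf 459494)))) (.node (.node (.node (.leaf 32774) (.leaf 295174)) (.node (.leaf 164230) (.leaf 426630))) (.node (.node (.leaf 98374) (.leaf 360774)) (.node (.leaf 229830) (.leaf 492230))))) (.node (.node (.node (.node (.leaf 54) (.leaf 262454)) (.node (.leaf 131510) (.leaf 393910))) (.node (.node (.leaf 65654) (.leaf 328054)) (.node (.leaf 197110) (.leaf 459510)))) (.node (.node (.node (.leaf 32790) (.leaf 295190)) (.node (.leaf 164246) (.leaf 426646))) (.node (.node (.leaf 98390) (.leaf 360790)) (.node (.leaf 229846) (.leaf 492246))))))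

/-- Part of a collection table. -/
def tblHS_5_7 : Trie := (.node (.node (.node (.node (.node (.leaf 39) (.leaf 262439)) (.node (.leaf 131495) (.leaf 393895))) (.node (.node (.leaf 65639) (.leaf 328039)) (.node (.leaf 197095) (.leaf 459495)))) (.node (.node (.node (.leaf 32775) (.leaf 295175)) (.node (.leaf 164231) (.leaf 426631))) (.node (.node (.leaf 98375) (.leaf 360775)) (.node (.leaf 229831) (.leaf 492231))))) (.node (.node (.node (.node (.leaf 55) (.leaf 262455)) (.node (.leaf 131511) (.leaf 393911))) (.node (.node (.leaf 65655) (.leaf 328055)) (.node (.leaf 197111) (.leaf 459511)))) (.node (.node (.node (.leaf 32791) (.leaf 295191)) (.node (.leaf 164247) (.leaf 426647))) (.node (.node (.leaf 98391) (.leaf 360791)) (.node (.leaf 229847) (.leaf 492247))))))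

/-- Part of a collection table. -/
def tblHS_5_8 : Trie := (.node (.node (.node (.node (.node (.leaf 40) (.leaf 262440)) (.node (.leaf 131496) (.leaf 393896))) (.node (.node (.leaf 65640) (.leaf 328040)) (.node (.leaf 197096) (.leaf 459496)))) (.node (.node (.node (.leaf 32776) (.leaf 295176)) (.node (.leaf 164232) (.leaf 426632))) (.node (.node (.leaf 98376) (.leaf 360776)) (.node (.leaf 229832) (.leaf 492232))))) (.node (.node (.node (.node (.leaf 56) (.leaf 262456)) (.node (.leaf 131512) (.leaf 393912))) (.node (.node (.leaf 65656) (.leaf 328056)) (.node (.leaf 197112) (.leaf 459512)))) (.node (.node (.node (.leaf 32792) (.leaf 295192)) (.node (.leaf 164248) (.leaf 426648))) (.node (.node (.leaf 98392) (.leaf 360792)) (.node (.leaf 229848) (.leaf 492248))))))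

/-- Part of a collection table. -/
def tblHS_5_9 : Trie := (.node (.node (.node (.node (.node (.leaf 41) (.leaf 262441)) (.node (.leaf 131497) (.leaf 393897))) (.node (.node (.leaf 65641) (.leaf 328041)) (.node (.leaf 197097) (.leaf 459497)))) (.node (.node (.node (.leaf 32777) (.leaf 295177)) (.node (.leaf 164233) (.leaf 426633))) (.node (.node (.leaf 98377) (.leaf 360777)) (.node (.leaf 229833) (.leaf 492233))))) (.node (.node (.node (.node (.leaf 57) (.leaf 262457)) (.node (.leaf 131513) (.leaf 393913))) (.node (.node (.leaf 65657) (.leaf 328057)) (.node (.leaf 197113) (.leaf 459513)))) (.node (.node (.node (.leaf 32793) (.leaf 295193)) (.node (.leaf 164249) (.leaf 426649))) (.node (.node (.leaf 98393) (.leaf 360793)) (.node (.leaf 229849) (.leaf 492249))))))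

/-- Part of a collection table. -/
def tblHS_5_10 : Trie := (.node (.node (.node (.node (.node (.leaf 42) (.leaf 262442)) (.node (.leaf 131498) (.leaf 393898))) (.node (.node (.leaf 65642) (.leaf 328042)) (.node (.leaf 197098) (.leaf 459498)))) (.node (.node (.node (.leaf 32778) (.leaf 295178)) (.node (.leaf 164234) (.leaf 426634))) (.node (.node (.leaf 98378) (.leaf 360778)) (.node (.leaf 229834) (.leaf 492234))))) (.node (.node (.node (.node (.leaf 58) (.leaf 262458)) (.node (.leaf 131514) (.leaf 393914))) (.node (.node (.leaf 65658) (.leaf 328058)) (.node (.leaf 197114) (.leaf 459514)))) (.node (.node (.node (.leaf 32794) (.leaf 295194)) (.node (.leaf 164250) (.leaf 426650))) (.node (.node (.leaf 98394) (.leaf 360794)) (.node (.leaf 229850) (.leaf 492250))))))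

/-- Part of a collection table. -/
def tblHS_5_11 : Trie := (.node (.node (.node (.node (.node (.leaf 43) (.leaf 262443)) (.node (.leaf 131499) (.leaf 393899))) (.node (.node (.leaf 65643) (.leaf 328043)) (.node (.leaf 197099) (.leaf 459499)))) (.node (.node (.node (.leaf 32779) (.leaf 295179)) (.node (.leaf 164235) (.leaf 426635))) (.node (.node (.leaf 98379) (.leaf 360779)) (.node (.leaf 229835) (.leaf 492235))))) (.node (.node (.node (.node (.leaf 59) (.leaf 262459)) (.node (.leaf 131515) (.leaf 393915))) (.node (.node (.leaf 65659) (.leaf 328059)) (.node (.leaf 197115) (.leaf 459515)))) (.node (.node (.node (.leaf 32795) (.leaf 295195)) (.node (.leaf 164251) (.leaf 426651))) (.node (.node (.leaf 98395) (.leaf 360795)) (.node (.leaf 229851) (.leaf 492251))))))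

/-- Part of a collection table. -/
def tblHS_5_12 : Trie := (.node (.node (.node (.node (.node (.leaf 44) (.leaf 262444)) (.node (.leaf 131500) (.leaf 393900))) (.node (.node (.leaf 65644) (.leaf 328044)) (.node (.leaf 197100) (.leaf 459500)))) (.node (.node (.node (.leaf 32780) (.leaf 295180)) (.node (.leaf 164236) (.leaf 426636))) (.node (.node (.leaf 98380) (.leaf 360780)) (.node (.leaf 229836) (.leaf 492236))))) (.node (.node (.node (.node (.leaf 60) (.leaf 262460)) (.node (.leaf 131516) (.leaf 393916))) (.node (.node (.leaf 65660) (.leaf 328060)) (.node (.leaf 197116) (.leaf 459516)))) (.node (.node (.node (.leaf 32796) (.leaf 295196)) (.node (.leaf 164252) (.leaf 426652))) (.node (.node (.leaf 98396) (.leaf 360796)) (.node (.leaf 229852) (.leaf 492252))))))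

/-- Part of a collection table. -/
def tblHS_5_13 : Trie := (.node (.node (.node (.node (.node (.leaf 45) (.leaf 262445)) (.node (.leaf 131501) (.leaf 393901))) (.node (.node (.leaf 65645) (.leaf 328045)) (.node (.leaf 197101) (.leaf 459501)))) (.node (.node (.node (.leaf 32781) (.leaf 295181)) (.node (.leaf 164237) (.leaf 426637))) (.node (.node (.leaf 98381) (.leaf 360781)) (.node (.leaf 229837) (.leaf 492237))))) (.node (.node (.node (.node (.leaf 61) (.leaf 262461)) (.node (.leaf 131517) (.leaf 393917))) (.node (.node (.leaf 65661) (.leaf 328061)) (.node (.leaf 197117) (.leaf 459517)))) (.node (.node (.node (.leaf 32797) (.leaf 295197)) (.node (.leaf 164253) (.leaf 426653))) (.node (.node (.leaf 98397) (.leaf 360797)) (.node (.leaf 229853) (.leaf 492253))))))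

/-- Part of a collection table. -/
def tblHS_5_14 : Trie := (.node (.node (.node (.node (.node (.leaf 46) (.leaf 262446)) (.node (.leaf 131502) (.leaf 393902))) (.node (.node (.leaf 65646) (.leaf 328046)) (.node (.leaf 197102) (.leaf 459502)))) (.node (.node (.node (.leaf 32782) (.leaf 295182)) (.node (.leaf 164238) (.leaf 426638))) (.node (.node (.leaf 98382) (.leaf 360782)) (.node (.leaf 229838) (.leaf 492238))))) (.node (.node (.node (.node (.leaf 62) (.leaf 262462)) (.node (.leaf 131518) (.leaf 393918))) (.node (.node (.leaf 65662) (.leaf 328062)) (.node (.leaf 197118) (.leaf 459518)))) (.node (.node (.node (.leaf 32798) (.leaf 295198)) (.node (.leaf 164254) (.leaf 426654))) (.node (.node (.leaf 98398) (.leaf 360798)) (.node (.leaf 229854) (.leaf 492254))))))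

/-- Part of a collection table. -/
def tblHS_5_15 : Trie := (.node (.node (.node (.node (.node (.leaf 47) (.leaf 262447)) (.node (.leaf 131503) (.leaf 393903))) (.node (.node (.leaf 65647) (.leaf 328047)) (.node (.leaf 197103) (.leaf 459503)))) (.node (.node (.node (.leaf 32783) (.leaf 295183)) (.node (.leaf 164239) (.leaf 426639))) (.node (.node (.leaf 98383) (.leaf 360783)) (.node (.leaf 229839) (.leaf 492239))))) (.node (.node (.node (.node (.leaf 63) (.leaf 262463)) (.node (.leaf 131519) (.leaf 393919))) (.node (.node (.leaf 65663) (.leaf 328063)) (.node (.leaf 197119) (.leaf 459519)))) (.node (.node (.node (.leaf 32799) (.leaf 295199)) (.node (.leaf 164255) (.leaf 426655))) (.node (.node (.leaf 98399) (.leaf 360799)) (.node (.leaf 229855) (.leaf 492255))))))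

/-- Part of a collection table. -/
def tblHS_6_0 : Trie := (.node (.node (.node (.node (.node (.leaf 64) (.leaf 16704)) (.node (.leaf 8384) (.leaf 25024))) (.node (.node (.leaf 4096) (.leaf 20736)) (.node (.leaf 12416) (.leaf 29056)))) (.node (.node (.node (.leaf 96) (.leaf 16736)) (.node (.leaf 8416) (.leaf 25056))) (.node (.node (.leaf 4128) (.leaf 20768)) (.node (.leaf 12448) (.leaf 29088))))) (.node (.node (.node (.node (.leaf 80) (.leaf 16720)) (.node (.leaf 8400) (.leaf 25040))) (.node (.node (.leaf 4112) (.leaf 20752)) (.node (.leaf 12432) (.leaf 29072)))) (.node (.node (.node (.leaf 112) (.leaf 16752)) (.node (.leaf 8432) (.leaf 25072))) (.node (.node (.leaf 4144) (.leaf 20784)) (.node (.leaf 12464) (.leaf 29104))))))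

/-- Part of a collection table. -/
def tblHS_6_1 : Trie := (.node (.node (.node (.node (.node (.leaf 65) (.leaf 16705)) (.node (.leaf 8385) (.leaf 25025))) (.node (.node (.leaf 4097) (.leaf 20737)) (.node (.leaf 12417) (.leaf 29057)))) (.node (.node (.node (.leaf 97) (.leaf 16737)) (.node (.leaf 8417) (.leaf 25057))) (.node (.node (.leaf 4129) (.leaf 20769)) (.node (.leaf 12449) (.leaf 29089))))) (.node (.node (.node (.node (.leaf 81) (.leaf 16721)) (.node (.leaf 8401) (.leaf 25041))) (.node (.node (.leaf 4113) (.leaf 20753)) (.node (.leaf 12433) (.leaf 29073)))) (.node (.node (.node (.leaf 113) (.leaf 16753)) (.node (.leaf 8433) (.leaf 25073))) (.node (.node (.leaf 4145) (.leaf 20785)) (.node (.leaf 12465) (.leaf 29105))))))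

/-- Part of a collection table. -/
def tblHS_6_2 : Trie := (.node (.node (.node (.node (.node (.leaf 66) (.leaf 16706)) (.node (.leaf 8386) (.leaf 25026))) (.node (.node (.leaf 4098) (.leaf 20738)) (.node (.leaf 12418) (.leaf 29058)))) (.node (.node (.node (.leaf 98) (.leaf 16738)) (.node (.leaf 8418) (.leaf 25058))) (.node (.node (.leaf 4130) (.leaf 20770)) (.node (.leaf 12450) (.leaf 29090))))) (.node (.node (.node (.node (.leaf 82) (.leaf 16722)) (.node (.leaf 8402) (.leaf 25042))) (.node (.node (.leaf 4114) (.leaf 20754)) (.node (.leaf 12434) (.leaf 29074)))) (.node (.node (.node (.leaf 114) (.leaf 16754)) (.node (.leaf 8434) (.leaf 25074))) (.node (.node (.leaf 4146) (.leaf 20786)) (.node (.leaf 12466) (.leaf 29106))))))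

/-- Part of a collection table. -/
def tblHS_6_3 : Trie := (.node (.node (.node (.node (.node (.leaf 67) (.leaf 16707)) (.node (.leaf 8387) (.leaf 25027))) (.node (.node (.leaf 4099) (.leaf 20739)) (.node (.leaf 12419) (.leaf 29059)))) (.node (.node (.node (.leaf 99) (.leaf 16739)) (.node (.leaf 8419) (.leaf 25059))) (.node (.node (.leaf 4131) (.leaf 20771)) (.node (.leaf 12451) (.leaf 29091))))) (.node (.node (.node (.node (.leaf 83) (.leaf 16723)) (.node (.leaf 8403) (.leaf 25043))) (.node (.node (.leaf 4115) (.leaf 20755)) (.node (.leaf 12435) (.leaf 29075)))) (.node (.node (.node (.leaf 115) (.leaf 16755)) (.node (.leaf 8435) (.leaf 25075))) (.node (.node (.leaf 4147) (.leaf 20787)) (.node (.leaf 12467) (.leaf 29107))))))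

/-- Part of a collection table. -/
def tblHS_6_4 : Trie := (.node (.node (.node (.node (.node (.leaf 68) (.leaf 16708)) (.node (.leaf 8388) (.leaf 25028))) (.node (.node (.leaf 4100) (.leaf 20740)) (.node (.leaf 12420) (.leaf 29060)))) (.node (.node (.node (.leaf 100) (.leaf 16740)) (.node (.leaf 8420) (.leaf 25060))) (.node (.node (.leaf 4132) (.leaf 20772)) (.node (.leaf 12452) (.leaf 29092))))) (.node (.node (.node (.node (.leaf 84) (.leaf 16724)) (.node (.leaf 8404) (.leaf 25044))) (.node (.node (.leaf 4116) (.leaf 20756)) (.node (.leaf 12436) (.leaf 29076)))) (.node (.node (.node (.leaf 116) (.leaf 16756)) (.node (.leaf 8436) (.leaf 25076))) (.node (.node (.leaf 4148) (.leaf 20788)) (.node (.leaf 12468) (.leaf 29108))))))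

/-- Part of a collection table. -/
def tblHS_6_5 : Trie := (.node (.node (.node (.node (.node (.leaf 69) (.leaf 16709)) (.node (.leaf 8389) (.leaf 25029))) (.node (.node (.leaf 4101) (.leaf 20741)) (.node (.leaf 12421) (.leaf 29061)))) (.node (.node (.node (.leaf 101) (.leaf 16741)) (.node (.leaf 8421) (.leaf 25061))) (.node (.node (.leaf 4133) (.leaf 20773)) (.node (.leaf 12453) (.leaf 29093))))) (.node (.node (.node (.node (.leaf 85) (.leaf 16725)) (.node (.leaf 8405) (.leaf 25045))) (.node (.node (.leaf 4117) (.leaf 20757)) (.node (.leaf 12437) (.leaf 29077)))) (.node (.node (.node (.leaf 117) (.leaf 16757)) (.node (.leaf 8437) (.leaf 25077))) (.node (.node (.leaf 4149) (.leaf 20789)) (.node (.leaf 12469) (.leaf 29109))))))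

/-- Part of a collection table. -/
def tblHS_6_6 : Trie := (.node (.node (.node (.node (.node (.leaf 70) (.leaf 16710)) (.node (.leaf 8390) (.leaf 25030))) (.node (.node (.leaf 4102) (.leaf 20742)) (.node (.leaf 12422) (.leaf 29062)))) (.node (.node (.node (.leaf 102) (.leaf 16742)) (.node (.leaf 8422) (.leaf 25062))) (.node (.node (.leaf 4134) (.leaf 20774)) (.node (.leaf 12454) (.leaf 29094))))) (.node (.node (.node (.node (.leaf 86) (.leaf 16726)) (.node (.leaf 8406) (.leaf 25046))) (.node (.node (.leaf 4118) (.leaf 20758)) (.node (.leaf 12438) (.leaf 29078)))) (.node (.node (.node (.leaf 118) (.leaf 16758)) (.node (.leaf 8438) (.leaf 25078))) (.node (.node (.leaf 4150) (.leaf 20790)) (.node (.leaf 12470) (.leaf 29110))))))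

/-- Part of a collection table. -/
def tblHS_6_7 : Trie := (.node (.node (.node (.node (.node (.leaf 71) (.leaf 16711)) (.node (.leaf 8391) (.leaf 25031))) (.node (.node (.leaf 4103) (.leaf 20743)) (.node (.leaf 12423) (.leaf 29063)))) (.node (.node (.node (.leaf 103) (.leaf 16743)) (.node (.leaf 8423) (.leaf 25063))) (.node (.node (.leaf 4135) (.leaf 20775)) (.node (.leaf 12455) (.leaf 29095))))) (.node (.node (.node (.node (.leaf 87) (.leaf 16727)) (.node (.leaf 8407) (.leaf 25047))) (.node (.node (.leaf 4119) (.leaf 20759)) (.node (.leaf 12439) (.leaf 29079)))) (.node (.node (.node (.leaf 119) (.leaf 16759)) (.node (.leaf 8439) (.leaf 25079))) (.node (.node (.leaf 4151) (.leaf 20791)) (.node (.leaf 12471) (.leaf 29111))))))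

/-- Part of a collection table. -/
def tblHS_6_8 : Trie := (.node (.node (.node (.node (.node (.leaf 72) (.leaf 16712)) (.node (.leaf 8392) (.leaf 25032))) (.node (.node (.leaf 4104) (.leaf 20744)) (.node (.leaf 12424) (.leaf 29064)))) (.node (.node (.node (.leaf 104) (.leaf 16744)) (.node (.leaf 8424) (.leaf 25064))) (.node (.node (.leaf 4136) (.leaf 20776)) (.node (.leaf 12456) (.leaf 29096))))) (.node (.node (.node (.node (.leaf 88) (.leaf 16728)) (.node (.leaf 8408) (.leaf 25048))) (.node (.node (.leaf 4120) (.leaf 20760)) (.node (.leaf 12440) (.leaf 29080)))) (.node (.node (.node (.leaf 120) (.leaf 16760)) (.node (.leaf 8440) (.leaf 25080))) (.node (.node (.leaf 4152) (.leaf 20792)) (.node (.leaf 12472) (.leaf 29112))))))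

/-- Part of a collection table. -/
def tblHS_6_9 : Trie := (.node (.node (.node (.node (.node (.leaf 73) (.leaf 16713)) (.node (.leaf 8393) (.leaf 25033))) (.node (.node (.leaf 4105) (.leaf 20745)) (.node (.leaf 12425) (.leaf 29065)))) (.node (.node (.node (.leaf 105) (.leaf 16745)) (.node (.leaf 8425) (.leaf 25065))) (.node (.node (.leaf 4137) (.leaf 20777)) (.node (.leaf 12457) (.leaf 29097))))) (.node (.node (.node (.node (.leaf 89) (.leaf 16729)) (.node (.leaf 8409) (.leaf 25049))) (.node (.node (.leaf 4121) (.leaf 20761)) (.node (.leaf 12441) (.leaf 29081)))) (.node (.node (.node (.leaf 121) (.leaf 16761)) (.node (.leaf 8441) (.leaf 25081))) (.node (.node (.leaf 4153) (.leaf 20793)) (.node (.leaf 12473) (.leaf 29113))))))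

/-- Part of a collection table. -/
def tblHS_6_10 : Trie := (.node (.node (.node (.node (.node (.leaf 74) (.leaf 16714)) (.node (.leaf 8394) (.leaf 25034))) (.node (.node (.leaf 4106) (.leaf 20746)) (.node (.leaf 12426) (.leaf 29066)))) (.node (.node (.node (.leaf 106) (.leaf 16746)) (.node (.leaf 8426) (.leaf 25066))) (.node (.node (.leaf 4138) (.leaf 20778)) (.node (.leaf 12458) (.leaf 29098))))) (.node (.node (.node (.node (.leaf 90) (.leaf 16730)) (.node (.leaf 8410) (.leaf 25050))) (.node (.node (.leaf 4122) (.leaf 20762)) (.node (.leaf 12442) (.leaf 29082)))) (.node (.node (.node (.leaf 122) (.leaf 16762)) (.node (.leaf 8442) (.leaf 25082))) (.node (.node (.leaf 4154) (.leaf 20794)) (.node (.leaf 12474) (.leaf 29114))))))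

/-- Part of a collection table. -/
def tblHS_6_11 : Trie := (.node (.node (.node (.node (.node (.leaf 75) (.leaf 16715)) (.node (.leaf 8395) (.leaf 25035))) (.node (.node (.leaf 4107) (.leaf 20747)) (.node (.leaf 12427) (.leaf 29067)))) (.node (.node (.node (.leaf 107) (.leaf 16747)) (.node (.leaf 8427) (.leaf 25067))) (.node (.node (.leaf 4139) (.leaf 20779)) (.node (.leaf 12459) (.leaf 29099))))) (.node (.node (.node (.node (.leaf 91) (.leaf 16731)) (.node (.leaf 8411) (.leaf 25051))) (.node (.node (.leaf 4123) (.leaf 20763)) (.node (.leaf 12443) (.leaf 29083)))) (.node (.node (.node (.leaf 123) (.leaf 16763)) (.node (.leaf 8443) (.leaf 25083))) (.node (.node (.leaf 4155) (.leaf 20795)) (.node (.leaf 12475) (.leaf 29115))))))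

/-- Part of a collection table. -/
def tblHS_6_12 : Trie := (.node (.node (.node (.node (.node (.leaf 76) (.leaf 16716)) (.node (.leaf 8396) (.leaf 25036))) (.node (.node (.leaf 4108) (.leaf 20748)) (.node (.leaf 12428) (.leaf 29068)))) (.node (.node (.node (.leaf 108) (.leaf 16748)) (.node (.leaf 8428) (.leaf 25068))) (.node (.node (.leaf 4140) (.leaf 20780)) (.node (.leaf 12460) (.leaf 29100))))) (.node (.node (.node (.node (.leaf 92) (.leaf 16732)) (.node (.leaf 8412) (.leaf 25052))) (.node (.node (.leaf 4124) (.leaf 20764)) (.node (.leaf 12444) (.leaf 29084)))) (.node (.node (.node (.leaf 124) (.leaf 16764)) (.node (.leaf 8444) (.leaf 25084))) (.node (.node (.leaf 4156) (.leaf 20796)) (.node (.leaf 12476) (.leaf 29116))))))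

/-- Part of a collection table. -/
def tblHS_6_13 : Trie := (.node (.node (.node (.node (.node (.leaf 77) (.leaf 16717)) (.node (.leaf 8397) (.leaf 25037))) (.node (.node (.leaf 4109) (.leaf 20749)) (.node (.leaf 12429) (.leaf 29069)))) (.node (.node (.node (.leaf 109) (.leaf 16749)) (.node (.leaf 8429) (.leaf 25069))) (.node (.node (.leaf 4141) (.leaf 20781)) (.node (.leaf 12461) (.leaf 29101))))) (.node (.node (.node (.node (.leaf 93) (.leaf 16733)) (.node (.leaf 8413) (.leaf 25053))) (.node (.node (.leaf 4125) (.leaf 20765)) (.node (.leaf 12445) (.leaf 29085)))) (.node (.node (.node (.leaf 125) (.leaf 16765)) (.node (.leaf 8445) (.leaf 25085))) (.node (.node (.leaf 4157) (.leaf 20797)) (.node (.leaf 12477) (.leaf 29117))))))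

/-- Part of a collection table. -/
def tblHS_6_14 : Trie := (.node (.node (.node (.node (.node (.leaf 78) (.leaf 16718)) (.node (.leaf 8398) (.leaf 25038))) (.node (.node (.leaf 4110) (.leaf 20750)) (.node (.leaf 12430) (.leaf 29070)))) (.node (.node (.node (.leaf 110) (.leaf 16750)) (.node (.leaf 8430) (.leaf 25070))) (.node (.node (.leaf 4142) (.leaf 20782)) (.node (.leaf 12462) (.leaf 29102))))) (.node (.node (.node (.node (.leaf 94) (.leaf 16734)) (.node (.leaf 8414) (.leaf 25054))) (.node (.node (.leaf 4126) (.leaf 20766)) (.node (.leaf 12446) (.leaf 29086)))) (.node (.node (.node (.leaf 126) (.leaf 16766)) (.node (.leaf 8446) (.leaf 25086))) (.node (.node (.leaf 4158) (.leaf 20798)) (.node (.leaf 12478) (.leaf 29118))))))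

/-- Part of a collection table. -/
def tblHS_6_15 : Trie := (.node (.node (.node (.node (.node (.leaf 79) (.leaf 16719)) (.node (.leaf 8399) (.leaf 25039))) (.node (.node (.leaf 4111) (.leaf 20751)) (.node (.leaf 12431) (.leaf 29071)))) (.node (.node (.node (.leaf 111) (.leaf 16751)) (.node (.leaf 8431) (.leaf 25071))) (.node (.node (.leaf 4143) (.leaf 20783)) (.node (.leaf 12463) (.leaf 29103))))) (.node (.node (.node (.node (.leaf 95) (.leaf 16735)) (.node (.leaf 8415) (.leaf 25055))) (.node (.node (.leaf 4127) (.leaf 20767)) (.node (.leaf 12447) (.leaf 29087)))) (.node (.node (.node (.leaf 127) (.leaf 16767)) (.node (.leaf 8447) (.leaf 25087))) (.node (.node (.leaf 4159) (.leaf 20799)) (.node (.leaf 12479) (.leaf 29119))))))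

/-- Part of a collection table. -/
def tblHS_7_0 : Trie := (.node (.node (.node (.node (.node (.leaf 128) (.leaf 2432)) (.node (.leaf 1024) (.leaf 3328))) (.node (.node (.leaf 192) (.leaf 2496)) (.node (.leaf 1088) (.leaf 3392)))) (.node (.node (.node (.leaf 160) (.leaf 2464)) (.node (.leaf 1056) (.leaf 3360))) (.node (.node (.leaf 224) (.leaf 2528)) (.node (.leaf 1120) (.leaf 3424))))) (.node (.node (.node (.node (.leaf 144) (.leaf 2448)) (.node (.leaf 1040) (.leaf 3344))) (.node (.node (.leaf 208) (.leaf 2512)) (.node (.leaf 1104) (.leaf 3408)))) (.node (.node (.node (.leaf 176) (.leaf 2480)) (.node (.leaf 1072) (.leaf 3376))) (.node (.node (.leaf 240) (.leaf 2544)) (.node (.leaf 1136) (.leaf 3440))))))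

/-- Part of a collection table. -/
def tblHS_7_1 : Trie := (.node (.node (.node (.node (.node (.leaf 129) (.leaf 2433)) (.node (.leaf 1025) (.leaf 3329))) (.node (.node (.leaf 193) (.leaf 2497)) (.node (.leaf 1089) (.leaf 3393)))) (.node (.node (.node (.leaf 161) (.leaf 2465)) (.node (.leaf 1057) (.leaf 3361))) (.node (.node (.leaf 225) (.leaf 2529)) (.node (.leaf 1121) (.leaf 3425))))) (.node (.node (.node (.node (.leaf 145) (.leaf 2449)) (.node (.leaf 1041) (.leaf 3345))) (.node (.node (.leaf 209) (.leaf 2513)) (.node (.leaf 1105) (.leaf 3409)))) (.node (.node (.node (.leaf 177) (.leaf 2481)) (.node (.leaf 1073) (.leaf 3377))) (.node (.node (.leaf 241) (.leaf 2545)) (.node (.leaf 1137) (.leaf 3441))))))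

/-- Part of a collection table. -/
def tblHS_7_2 : Trie := (.node (.node (.node (.node (.node (.leaf 130) (.leaf 2434)) (.node (.leaf 1026) (.leaf 3330))) (.node (.node (.leaf 194) (.leaf 2498)) (.node (.leaf 1090) (.leaf 3394)))) (.node (.node (.node (.leaf 162) (.leaf 2466)) (.node (.leaf 1058) (.leaf 3362))) (.node (.node (.leaf 226) (.leaf 2530)) (.node (.leaf 1122) (.leaf 3426))))) (.node (.node (.node (.node (.leaf 146) (.leaf 2450)) (.node (.leaf 1042) (.leaf 3346))) (.node (.node (.leaf 210) (.leaf 2514)) (.node (.leaf 1106) (.leaf 3410)))) (.node (.node (.node (.leaf 178) (.leaf 2482)) (.node (.leaf 1074) (.leaf 3378))) (.node (.node (.leaf 242) (.leaf 2546)) (.node (.leaf 1138) (.leaf 3442))))))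

/-- Part of a collection table. -/
def tblHS_7_3 : Trie := (.node (.node (.node (.node (.node (.leaf 131) (.leaf 2435)) (.node (.leaf 1027) (.leaf 3331))) (.node (.node (.leaf 195) (.leaf 2499)) (.node (.leaf 1091) (.leaf 3395)))) (.node (.node (.node (.leaf 163) (.leaf 2467)) (.node (.leaf 1059) (.leaf 3363))) (.node (.node (.leaf 227) (.leaf 2531)) (.node (.leaf 1123) (.leaf 3427))))) (.node (.node (.node (.node (.leaf 147) (.leaf 2451)) (.node (.leaf 1043) (.leaf 3347))) (.node (.node (.leaf 211) (.leaf 2515)) (.node (.leaf 1107) (.leaf 3411)))) (.node (.node (.node (.leaf 179) (.leaf 2483)) (.node (.leaf 1075) (.leaf 3379))) (.node (.node (.leaf 243) (.leaf 2547)) (.node (.leaf 1139) (.leaf 3443))))))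

/-- Part of a collection table. -/
def tblHS_7_4 : Trie := (.node (.node (.node (.node (.node (.leaf 132) (.leaf 2436)) (.node (.leaf 1028) (.leaf 3332))) (.node (.node (.leaf 196) (.leaf 2500)) (.node (.leaf 1092) (.leaf 3396)))) (.node (.node (.node (.leaf 164) (.leaf 2468)) (.node (.leaf 1060) (.leaf 3364))) (.node (.node (.leaf 228) (.leaf 2532)) (.node (.leaf 1124) (.leaf 3428))))) (.node (.node (.node (.node (.leaf 148) (.leaf 2452)) (.node (.leaf 1044) (.leaf 3348))) (.node (.node (.leaf 212) (.leaf 2516)) (.node (.leaf 1108) (.leaf 3412)))) (.node (.node (.node (.leaf 180) (.leaf 2484)) (.node (.leaf 1076) (.leaf 3380))) (.node (.node (.leaf 244) (.leaf 2548)) (.node (.leaf 1140) (.leaf 3444))))))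

/-- Part of a collection table. -/
def tblHS_7_5 : Trie := (.node (.node (.node (.node (.node (.leaf 133) (.leaf 2437)) (.node (.leaf 1029) (.leaf 3333))) (.node (.node (.leaf 197) (.leaf 2501)) (.node (.leaf 1093) (.leaf 3397)))) (.node (.node (.node (.leaf 165) (.leaf 2469)) (.node (.leaf 1061) (.leaf 3365))) (.node (.node (.leaf 229) (.leaf 2533)) (.node (.leaf 1125) (.leaf 3429))))) (.node (.node (.node (.node (.leaf 149) (.leaf 2453)) (.node (.leaf 1045) (.leaf 3349))) (.node (.node (.leaf 213) (.leaf 2517)) (.node (.leaf 1109) (.leaf 3413)))) (.node (.node (.node (.leaf 181) (.leaf 2485)) (.node (.leaf 1077) (.leaf 3381))) (.node (.node (.leaf 245) (.leaf 2549)) (.node (.leaf 1141) (.leaf 3445))))))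

/-- Part of a collection table. -/
def tblHS_7_6 : Trie := (.node (.node (.node (.node (.node (.leaf 134) (.leaf 2438)) (.node (.leaf 1030) (.leaf 3334))) (.node (.node (.leaf 198) (.leaf 2502)) (.node (.leaf 1094) (.leaf 3398)))) (.node (.node (.node (.leaf 166) (.leaf 2470)) (.node (.leaf 1062) (.leaf 3366))) (.node (.node (.leaf 230) (.leaf 2534)) (.node (.leaf 1126) (.leaf 3430))))) (.node (.node (.node (.node (.leaf 150) (.leaf 2454)) (.node (.leaf 1046) (.leaf 3350))) (.node (.node (.leaf 214) (.leaf 2518)) (.node (.leaf 1110) (.leaf 3414)))) (.node (.node (.node (.leaf 182) (.leaf 2486)) (.node (.leaf 1078) (.leaf 3382))) (.node (.node (.leaf 246) (.leaf 2550)) (.node (.leaf 1142) (.leaf 3446))))))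

/-- Part of a collection table. -/
def tblHS_7_7 : Trie := (.node (.node (.node (.node (.node (.leaf 135) (.leaf 2439)) (.node (.leaf 1031) (.leaf 3335))) (.node (.node (.leaf 199) (.leaf 2503)) (.node (.leaf 1095) (.leaf 3399)))) (.node (.node (.node (.leaf 167) (.leaf 2471)) (.node (.leaf 1063) (.leaf 3367))) (.node (.node (.leaf 231) (.leaf 2535)) (.node (.leaf 1127) (.leaf 3431))))) (.node (.node (.node (.node (.leaf 151) (.leaf 2455)) (.node (.leaf 1047) (.leaf 3351))) (.node (.node (.leaf 215) (.leaf 2519)) (.node (.leaf 1111) (.leaf 3415)))) (.node (.node (.node (.leaf 183) (.leaf 2487)) (.node (.leaf 1079) (.leaf 3383))) (.node (.node (.leaf 247) (.leaf 2551)) (.node (.leaf 1143) (.leaf 3447))))))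

/-- Part of a collection table. -/
def tblHS_7_8 : Trie := (.node (.node (.node (.node (.node (.leaf 136) (.leaf 2440)) (.node (.leaf 1032) (.leaf 3336))) (.node (.node (.leaf 200) (.leaf 2504)) (.node (.leaf 1096) (.leaf 3400)))) (.node (.node (.node (.leaf 168) (.leaf 2472)) (.node (.leaf 1064) (.leaf 3368))) (.node (.node (.leaf 232) (.leaf 2536)) (.node (.leaf 1128) (.leaf 3432))))) (.node (.node (.node (.node (.leaf 152) (.leaf 2456)) (.node (.leaf 1048) (.leaf 3352))) (.node (.node (.leaf 216) (.leaf 2520)) (.node (.leaf 1112) (.leaf 3416)))) (.node (.node (.node (.leaf 184) (.leaf 2488)) (.node (.leaf 1080) (.leaf 3384))) (.node (.node (.leaf 248) (.leaf 2552)) (.node (.leaf 1144) (.leaf 3448))))))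

/-- Part of a collection table. -/
def tblHS_7_9 : Trie := (.node (.node (.node (.node (.node (.leaf 137) (.leaf 2441)) (.node (.leaf 1033) (.leaf 3337))) (.node (.node (.leaf 201) (.leaf 2505)) (.node (.leaf 1097) (.leaf 3401)))) (.node (.node (.node (.leaf 169) (.leaf 2473)) (.node (.leaf 1065) (.leaf 3369))) (.node (.node (.leaf 233) (.leaf 2537)) (.node (.leaf 1129) (.leaf 3433))))) (.node (.node (.node (.node (.leaf 153) (.leaf 2457)) (.node (.leaf 1049) (.leaf 3353))) (.node (.node (.leaf 217) (.leaf 2521)) (.node (.leaf 1113) (.leaf 3417)))) (.node (.node (.node (.leaf 185) (.leaf 2489)) (.node (.leaf 1081) (.leaf 3385))) (.node (.node (.leaf 249) (.leaf 2553)) (.node (.leaf 1145) (.leaf 3449))))))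

/-- Part of a collection table. -/
def tblHS_7_10 : Trie := (.node (.node (.node (.node (.node (.leaf 138) (.leaf 2442)) (.node (.leaf 1034) (.leaf 3338))) (.node (.node (.leaf 202) (.leaf 2506)) (.node (.leaf 1098) (.leaf 3402)))) (.node (.node (.node (.leaf 170) (.leaf 2474)) (.node (.leaf 1066) (.leaf 3370))) (.node (.node (.leaf 234) (.leaf 2538)) (.node (.leaf 1130) (.leaf 3434))))) (.node (.node (.node (.node (.leaf 154) (.leaf 2458)) (.node (.leaf 1050) (.leaf 3354))) (.node (.node (.leaf 218) (.leaf 2522)) (.node (.leaf 1114) (.leaf 3418)))) (.node (.node (.node (.leaf 186) (.leaf 2490)) (.node (.leaf 1082) (.leaf 3386))) (.node (.node (.leaf 250) (.leaf 2554)) (.node (.leaf 1146) (.leaf 3450))))))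

/-- Part of a collection table. -/
def tblHS_7_11 : Trie := (.node (.node (.node (.node (.node (.leaf 139) (.leaf 2443)) (.node (.leaf 1035) (.leaf 3339))) (.node (.node (.leaf 203) (.leaf 2507)) (.node (.leaf 1099) (.leaf 3403)))) (.node (.node (.node (.leaf 171) (.leaf 2475)) (.node (.leaf 1067) (.leaf 3371))) (.node (.node (.leaf 235) (.leaf 2539)) (.node (.leaf 1131) (.leaf 3435))))) (.node (.node (.node (.node (.leaf 155) (.leaf 2459)) (.node (.leaf 1051) (.leaf 3355))) (.node (.node (.leaf 219) (.leaf 2523)) (.node (.leaf 1115) (.leaf 3419)))) (.node (.node (.node (.leaf 187) (.leaf 2491)) (.node (.leaf 1083) (.leaf 3387))) (.node (.node (.leaf 251) (.leaf 2555)) (.node (.leaf 1147) (.leaf 3451))))))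

/-- Part of a collection table. -/
def tblHS_7_12 : Trie := (.node (.node (.node (.node (.node (.leaf 140) (.leaf 2444)) (.node (.leaf 1036) (.leaf 3340))) (.node (.node (.leaf 204) (.leaf 2508)) (.node (.leaf 1100) (.leaf 3404)))) (.node (.node (.node (.leaf 172) (.leaf 2476)) (.node (.leaf 1068) (.leaf 3372))) (.node (.node (.leaf 236) (.leaf 2540)) (.node (.leaf 1132) (.leaf 3436))))) (.node (.node (.node (.node (.leaf 156) (.leaf 2460)) (.node (.leaf 1052) (.leaf 3356))) (.node (.node (.leaf 220) (.leaf 2524)) (.node (.leaf 1116) (.leaf 3420)))) (.node (.node (.node (.leaf 188) (.leaf 2492)) (.node (.leaf 1084) (.leaf 3388))) (.node (.node (.leaf 252) (.leaf 2556)) (.node (.leaf 1148) (.leaf 3452))))))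

/-- Part of a collection table. -/
def tblHS_7_13 : Trie := (.node (.node (.node (.node (.node (.leaf 141) (.leaf 2445)) (.node (.leaf 1037) (.leaf 3341))) (.node (.node (.leaf 205) (.leaf 2509)) (.node (.leaf 1101) (.leaf 3405)))) (.node (.node (.node (.leaf 173) (.leaf 2477)) (.node (.leaf 1069) (.leaf 3373))) (.node (.node (.leaf 237) (.leaf 2541)) (.node (.leaf 1133) (.leaf 3437))))) (.node (.node (.node (.node (.leaf 157) (.leaf 2461)) (.node (.leaf 1053) (.leaf 3357))) (.node (.node (.leaf 221) (.leaf 2525)) (.node (.leaf 1117) (.leaf 3421)))) (.node (.node (.node (.leaf 189) (.leaf 2493)) (.node (.leaf 1085) (.leaf 3389))) (.node (.node (.leaf 253) (.leaf 2557)) (.node (.leaf 1149) (.leaf 3453))))))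

/-- Part of a collection table. -/
def tblHS_7_14 : Trie := (.node (.node (.node (.node (.node (.leaf 142) (.leaf 2446)) (.node (.leaf 1038) (.leaf 3342))) (.node (.node (.leaf 206) (.leaf 2510)) (.node (.leaf 1102) (.leaf 3406)))) (.node (.node (.node (.leaf 174) (.leaf 2478)) (.node (.leaf 1070) (.leaf 3374))) (.node (.node (.leaf 238) (.leaf 2542)) (.node (.leaf 1134) (.leaf 3438))))) (.node (.node (.node (.node (.leaf 158) (.leaf 2462)) (.node (.leaf 1054) (.leaf 3358))) (.node (.node (.leaf 222) (.leaf 2526)) (.node (.leaf 1118) (.leaf 3422)))) (.node (.node (.node (.leaf 190) (.leaf 2494)) (.node (.leaf 1086) (.leaf 3390))) (.node (.node (.leaf 254) (.leaf 2558)) (.node (.leaf 1150) (.leaf 3454))))))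

/-- Part of a collection table. -/
def tblHS_7_15 : Trie := (.node (.node (.node (.node (.node (.leaf 143) (.leaf 2447)) (.node (.leaf 1039) (.leaf 3343))) (.node (.node (.leaf 207) (.leaf 2511)) (.node (.leaf 1103) (.leaf 3407)))) (.node (.node (.node (.leaf 175) (.leaf 2479)) (.node (.leaf 1071) (.leaf 3375))) (.node (.node (.leaf 239) (.leaf 2543)) (.node (.leaf 1135) (.leaf 3439))))) (.node (.node (.node (.node (.leaf 159) (.leaf 2463)) (.node (.leaf 1055) (.leaf 3359))) (.node (.node (.leaf 223) (.leaf 2527)) (.node (.leaf 1119) (.leaf 3423)))) (.node (.node (.node (.leaf 191) (.leaf 2495)) (.node (.leaf 1087) (.leaf 3391))) (.node (.node (.leaf 255) (.leaf 2559)) (.node (.leaf 1151) (.leaf 3455))))))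

/-- Part of a collection table. -/
def tblHS_8_0 : Trie := (.node (.node (.node (.node (.node (.leaf 256) (.leaf 512)) (.node (.leaf 384) (.leaf 640))) (.node (.node (.leaf 320) (.leaf 576)) (.node (.leaf 448) (.leaf 704)))) (.node (.node (.node (.leaf 288) (.leaf 544)) (.node (.leaf 416) (.leaf 672))) (.node (.node (.leaf 352) (.leaf 608)) (.node (.leaf 480) (.leaf 736))))) (.node (.node (.node (.node (.leaf 272) (.leaf 528)) (.node (.leaf 400) (.leaf 656))) (.node (.node (.leaf 336) (.leaf 592)) (.node (.leaf 464) (.leaf 720)))) (.node (.node (.node (.leaf 304) (.leaf 560)) (.node (.leaf 432) (.leaf 688))) (.node (.node (.leaf 368) (.leaf 624)) (.node (.leaf 496) (.leaf 752))))))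

/-- Part of a collection table. -/
def tblHS_8_1 : Trie := (.node (.node (.node (.node (.node (.leaf 257) (.leaf 513)) (.node (.leaf 385) (.leaf 641))) (.node (.node (.leaf 321) (.leaf 577)) (.node (.leaf 449) (.leaf 705)))) (.node (.node (.node (.leaf 289) (.leaf 545)) (.node (.leaf 417) (.leaf 673))) (.node (.node (.leaf 353) (.leaf 609)) (.node (.leaf 481) (.leaf 737))))) (.node (.node (.node (.node (.leaf 273) (.leaf 529)) (.node (.leaf 401) (.leaf 657))) (.node (.node (.leaf 337) (.leaf 593)) (.node (.leaf 465) (.leaf 721)))) (.node (.node (.node (.leaf 305) (.leaf 561)) (.node (.leaf 433) (.leaf 689))) (.node (.node (.leaf 369) (.leaf 625)) (.node (.leaf 497) (.leaf 753))))))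

/-- Part of a collection table. -/
def tblHS_8_2 : Trie := (.node (.node (.node (.node (.node (.leaf 258) (.leaf 514)) (.node (.leaf 386) (.leaf 642))) (.node (.node (.leaf 322) (.leaf 578)) (.node (.leaf 450) (.leaf 706)))) (.node (.node (.node (.leaf 290) (.leaf 546)) (.node (.leaf 418) (.leaf 674))) (.node (.node (.leaf 354) (.leaf 610)) (.node (.leaf 482) (.leaf 738))))) (.node (.node (.node (.node (.leaf 274) (.leaf 530)) (.node (.leaf 402) (.leaf 658))) (.node (.node (.leaf 338) (.leaf 594)) (.node (.leaf 466) (.leaf 722)))) (.node (.node (.node (.leaf 306) (.leaf 562)) (.node (.leaf 434) (.leaf 690))) (.node (.node (.leaf 370) (.leaf 626)) (.node (.leaf 498) (.leaf 754))))))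

/-- Part of a collection table. -/
def tblHS_8_3 : Trie := (.node (.node (.node (.node (.node (.leaf 259) (.leaf 515)) (.node (.leaf 387) (.leaf 643))) (.node (.node (.leaf 323) (.leaf 579)) (.node (.leaf 451) (.leaf 707)))) (.node (.node (.node (.leaf 291) (.leaf 547)) (.node (.leaf 419) (.leaf 675))) (.node (.node (.leaf 355) (.leaf 611)) (.node (.leaf 483) (.leaf 739))))) (.node (.node (.node (.node (.leaf 275) (.leaf 531)) (.node (.leaf 403) (.leaf 659))) (.node (.node (.leaf 339) (.leaf 595)) (.node (.leaf 467) (.leaf 723)))) (.node (.node (.node (.leaf 307) (.leaf 563)) (.node (.leaf 435) (.leaf 691))) (.node (.node (.leaf 371) (.leaf 627)) (.node (.leaf 499) (.leaf 755))))))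

/-- Part of a collection table. -/
def tblHS_8_4 : Trie := (.node (.node (.node (.node (.node (.leaf 260) (.leaf 516)) (.node (.leaf 388) (.leaf 644))) (.node (.node (.leaf 324) (.leaf 580)) (.node (.leaf 452) (.leaf 708)))) (.node (.node (.node (.leaf 292) (.leaf 548)) (.node (.leaf 420) (.leaf 676))) (.node (.node (.leaf 356) (.leaf 612)) (.node (.leaf 484) (.leaf 740))))) (.node (.node (.node (.node (.leaf 276) (.leaf 532)) (.node (.leaf 404) (.leaf 660))) (.node (.node (.leaf 340) (.leaf 596)) (.node (.leaf 468) (.leaf 724)))) (.node (.node (.node (.leaf 308) (.leaf 564)) (.node (.leaf 436) (.leaf 692))) (.node (.node (.leaf 372) (.leaf 628)) (.node (.leaf 500) (.leaf 756))))))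

/-- Part of a collection table. -/
def tblHS_8_5 : Trie := (.node (.node (.node (.node (.node (.leaf 261) (.leaf 517)) (.node (.leaf 389) (.leaf 645))) (.node (.node (.leaf 325) (.leaf 581)) (.node (.leaf 453) (.leaf 709)))) (.node (.node (.node (.leaf 293) (.leaf 549)) (.node (.leaf 421) (.leaf 677))) (.node (.node (.leaf 357) (.leaf 613)) (.node (.leaf 485) (.leaf 741))))) (.node (.node (.node (.node (.leaf 277) (.leaf 533)) (.node (.leaf 405) (.leaf 661))) (.node (.node (.leaf 341) (.leaf 597)) (.node (.leaf 469) (.leaf 725)))) (.node (.node (.node (.leaf 309) (.leaf 565)) (.node (.leaf 437) (.leaf 693))) (.node (.node (.leaf 373) (.leaf 629)) (.node (.leaf 501) (.leaf 757))))))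

/-- Part of a collection table. -/
def tblHS_8_6 : Trie := (.node (.node (.node (.node (.node (.leaf 262) (.leaf 518)) (.node (.leaf 390) (.leaf 646))) (.node (.node (.leaf 326) (.leaf 582)) (.node (.leaf 454) (.leaf 710)))) (.node (.node (.node (.leaf 294) (.leaf 550)) (.node (.leaf 422) (.leaf 678))) (.node (.node (.leaf 358) (.leaf 614)) (.node (.leaf 486) (.leaf 742))))) (.node (.node (.node (.node (.leaf 278) (.leaf 534)) (.node (.leaf 406) (.leaf 662))) (.node (.node (.leaf 342) (.leaf 598)) (.node (.leaf 470) (.leaf 726)))) (.node (.node (.node (.leaf 310) (.leaf 566)) (.node (.leaf 438) (.leaf 694))) (.node (.node (.leaf 374) (.leaf 630)) (.node (.leaf 502) (.leaf 758))))))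

/-- Part of a collection table. -/
def tblHS_8_7 : Trie := (.node (.node (.node (.node (.node (.leaf 263) (.leaf 519)) (.node (.leaf 391) (.leaf 647))) (.node (.node (.leaf 327) (.leaf 583)) (.node (.leaf 455) (.leaf 711)))) (.node (.node (.node (.leaf 295) (.leaf 551)) (.node (.leaf 423) (.leaf 679))) (.node (.node (.leaf 359) (.leaf 615)) (.node (.leaf 487) (.leaf 743))))) (.node (.node (.node (.node (.leaf 279) (.leaf 535)) (.node (.leaf 407) (.leaf 663))) (.node (.node (.leaf 343) (.leaf 599)) (.node (.leaf 471) (.leaf 727)))) (.node (.node (.node (.leaf 311) (.leaf 567)) (.node (.leaf 439) (.leaf 695))) (.node (.node (.leaf 375) (.leaf 631)) (.node (.leaf 503) (.leaf 759))))))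

/-- Part of a collection table. -/
def tblHS_8_8 : Trie := (.node (.node (.node (.node (.node (.leaf 264) (.leaf 520)) (.node (.leaf 392) (.leaf 648))) (.node (.node (.leaf 328) (.leaf 584)) (.node (.leaf 456) (.leaf 712)))) (.node (.node (.node (.leaf 296) (.leaf 552)) (.node (.leaf 424) (.leaf 680))) (.node (.node (.leaf 360) (.leaf 616)) (.node (.leaf 488) (.leaf 744))))) (.node (.node (.node (.node (.leaf 280) (.leaf 536)) (.node (.leaf 408) (.leaf 664))) (.node (.node (.leaf 344) (.leaf 600)) (.node (.leaf 472) (.leaf 728)))) (.node (.node (.node (.leaf 312) (.leaf 568)) (.node (.leaf 440) (.leaf 696))) (.node (.node (.leaf 376) (.leaf 632)) (.node (.leaf 504) (.leaf 760))))))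

/-- Part of a collection table. -/
def tblHS_8_9 : Trie := (.node (.node (.node (.node (.node (.leaf 265) (.leaf 521)) (.node (.leaf 393) (.leaf 649))) (.node (.node (.leaf 329) (.leaf 585)) (.node (.leaf 457) (.leaf 713)))) (.node (.node (.node (.leaf 297) (.leaf 553)) (.node (.leaf 425) (.leaf 681))) (.node (.node (.leaf 361) (.leaf 617)) (.node (.leaf 489) (.leaf 745))))) (.node (.node (.node (.node (.leaf 281) (.leaf 537)) (.node (.leaf 409) (.leaf 665))) (.node (.node (.leaf 345) (.leaf 601)) (.node (.leaf 473) (.leaf 729)))) (.node (.node (.node (.leaf 313) (.leaf 569)) (.node (.leaf 441) (.leaf 697))) (.node (.node (.leaf 377) (.leaf 633)) (.node (.leaf 505) (.leaf 761))))))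

/-- Part of a collection table. -/
def tblHS_8_10 : Trie := (.node (.node (.node (.node (.node (.leaf 266) (.leaf 522)) (.node (.leaf 394) (.leaf 650))) (.node (.node (.leaf 330) (.leaf 586)) (.node (.leaf 458) (.leaf 714)))) (.node (.node (.node (.leaf 298) (.leaf 554)) (.node (.leaf 426) (.leaf 682))) (.node (.node (.leaf 362) (.leaf 618)) (.node (.leaf 490) (.leaf 746))))) (.node (.node (.node (.node (.leaf 282) (.leaf 538)) (.node (.leaf 410) (.leaf 666))) (.node (.node (.leaf 346) (.leaf 602)) (.node (.leaf 474) (.leaf 730)))) (.node (.node (.node (.leaf 314) (.leaf 570)) (.node (.leaf 442) (.leaf 698))) (.node (.node (.leaf 378) (.leaf 634)) (.node (.leaf 506) (.leaf 762))))))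

/-- Part of a collection table. -/
def tblHS_8_11 : Trie := (.node (.node (.node (.node (.node (.leaf 267) (.leaf 523)) (.node (.leaf 395) (.leaf 651))) (.node (.node (.leaf 331) (.leaf 587)) (.node (.leaf 459) (.leaf 715)))) (.node (.node (.node (.leaf 299) (.leaf 555)) (.node (.leaf 427) (.leaf 683))) (.node (.node (.leaf 363) (.leaf 619)) (.node (.leaf 491) (.leaf 747))))) (.node (.node (.node (.node (.leaf 283) (.leaf 539)) (.node (.leaf 411) (.leaf 667))) (.node (.node (.leaf 347) (.leaf 603)) (.node (.leaf 475) (.leaf 731)))) (.node (.node (.node (.leaf 315) (.leaf 571)) (.node (.leaf 443) (.leaf 699))) (.node (.node (.leaf 379) (.leaf 635)) (.node (.leaf 507) (.leaf 763))))))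

/-- Part of a collection table. -/
def tblHS_8_12 : Trie := (.node (.node (.node (.node (.node (.leaf 268) (.leaf 524)) (.node (.leaf 396) (.leaf 652))) (.node (.node (.leaf 332) (.leaf 588)) (.node (.leaf 460) (.leaf 716)))) (.node (.node (.node (.leaf 300) (.leaf 556)) (.node (.leaf 428) (.leaf 684))) (.node (.node (.leaf 364) (.leaf 620)) (.node (.leaf 492) (.leaf 748))))) (.node (.node (.node (.node (.leaf 284) (.leaf 540)) (.node (.leaf 412) (.leaf 668))) (.node (.node (.leaf 348) (.leaf 604)) (.node (.leaf 476) (.leaf 732)))) (.node (.node (.node (.leaf 316) (.leaf 572)) (.node (.leaf 444) (.leaf 700))) (.node (.node (.leaf 380) (.leaf 636)) (.node (.leaf 508) (.leaf 764))))))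

/-- Part of a collection table. -/
def tblHS_8_13 : Trie := (.node (.node (.node (.node (.node (.leaf 269) (.leaf 525)) (.node (.leaf 397) (.leaf 653))) (.node (.node (.leaf 333) (.leaf 589)) (.node (.leaf 461) (.leaf 717)))) (.node (.node (.node (.leaf 301) (.leaf 557)) (.node (.leaf 429) (.leaf 685))) (.node (.node (.leaf 365) (.leaf 621)) (.node (.leaf 493) (.leaf 749))))) (.node (.node (.node (.node (.leaf 285) (.leaf 541)) (.node (.leaf 413) (.leaf 669))) (.node (.node (.leaf 349) (.leaf 605)) (.node (.leaf 477) (.leaf 733)))) (.node (.node (.node (.leaf 317) (.leaf 573)) (.node (.leaf 445) (.leaf 701))) (.node (.node (.leaf 381) (.leaf 637)) (.node (.leaf 509) (.leaf 765))))))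

/-- Part of a collection table. -/
def tblHS_8_14 : Trie := (.node (.node (.node (.node (.node (.leaf 270) (.leaf 526)) (.node (.leaf 398) (.leaf 654))) (.node (.node (.leaf 334) (.leaf 590)) (.node (.leaf 462) (.leaf 718)))) (.node (.node (.node (.leaf 302) (.leaf 558)) (.node (.leaf 430) (.leaf 686))) (.node (.node (.leaf 366) (.leaf 622)) (.node (.leaf 494) (.leaf 750))))) (.node (.node (.node (.node (.leaf 286) (.leaf 542)) (.node (.leaf 414) (.leaf 670))) (.node (.node (.leaf 350) (.leaf 606)) (.node (.leaf 478) (.leaf 734)))) (.node (.node (.node (.leaf 318) (.leaf 574)) (.node (.leaf 446) (.leaf 702))) (.node (.node (.leaf 382) (.leaf 638)) (.node (.leaf 510) (.leaf 766))))))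

/-- Part of a collection table. -/
def tblHS_8_15 : Trie := (.node (.node (.node (.node (.node (.leaf 271) (.leaf 527)) (.node (.leaf 399) (.leaf 655))) (.node (.node (.leaf 335) (.leaf 591)) (.node (.leaf 463) (.leaf 719)))) (.node (.node (.node (.leaf 303) (.leaf 559)) (.node (.leaf 431) (.leaf 687))) (.node (.node (.leaf 367) (.leaf 623)) (.node (.leaf 495) (.leaf 751))))) (.node (.node (.node (.node (.leaf 287) (.leaf 543)) (.node (.leaf 415) (.leaf 671))) (.node (.node (.leaf 351) (.leaf 607)) (.node (.leaf 479) (.leaf 735)))) (.node (.node (.node (.leaf 319) (.leaf 575)) (.node (.leaf 447) (.leaf 703))) (.node (.node (.leaf 383) (.leaf 639)) (.node (.leaf 511) (.leaf 767))))))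

/-- Collector. -/
def colHS : Collector where
  n := 9
  rels := [([8, 8], []),
    ([7, 7], []),
    ([8, 7], [7, 8]),
    ([6, 6], []),
    ([7, 6], [6, 7]),
    ([8, 6], [6, 8]),
    ([5, 5], []),
    ([6, 5], [5, 6]),
    ([7, 5], [5, 7, 8]),
    ([8, 5], [5, 8]),
    ([4, 4], []),
    ([5, 4], [4, 5]),
    ([6, 4], [4, 6]),
    ([7, 4], [4, 7]),
    ([8, 4], [4, 8]),
    ([3, 3], [4, 6, 8]),
    ([4, 3], [3, 4, 8]),
    ([5, 3], [3, 4, 5, 6, 8]),
    ([6, 3], [3, 6, 8]),
    ([7, 3], [3, 4, 6, 7]),
    ([8, 3], [3, 8]),
    ([2, 2], [4, 6, 8]),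
    ([3, 2], [2, 3, 4, 6, 8]),
    ([4, 2], [2, 6]),
    ([5, 2], [2, 5, 8]),
    ([6, 2], [2, 4]),
    ([7, 2], [2, 7, 8]),
    ([8, 2], [2, 8]),
    ([1, 1], [2, 8]),
    ([2, 1], [1, 2, 4, 6, 8]),
    ([3, 1], [1, 2, 3, 4, 6]),
    ([4, 1], [1, 4, 5, 6, 8]),
    ([5, 1], [1, 4, 8]),
    ([6, 1], [1, 4, 5, 6]),
    ([7, 1], [1, 2, 5, 6, 7, 8]),
    ([8, 1], [1, 4, 6]),
    ([0, 0], [5, 7]),
    ([1, 0], [0, 1, 3, 5, 7, 8]),
    ([2, 0], [0, 2, 4, 6]),
    ([3, 0], [0, 2, 3, 4, 6, 8]),
    ([4, 0], [0, 3, 5, 8]),
    ([5, 0], [0, 2, 3, 4, 8]),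
    ([6, 0], [0, 3, 4, 5, 6, 8]),
    ([7, 0], [0, 2, 3, 4, 5, 7, 8]),
    ([8, 0], [0, 8])]
  table := [(.node (.node (.node (.node tblHS_0_0 tblHS_0_8) (.node tblHS_0_4 tblHS_0_12)) (.node (.node tblHS_0_2 tblHS_0_10) (.node tblHS_0_6 tblHS_0_14))) (.node (.node (.node tblHS_0_1 tblHS_0_9) (.node tblHS_0_5 tblHS_0_13)) (.node (.node tblHS_0_3 tblHS_0_11) (.node tblHS_0_7 tblHS_0_15)))),
    (.node (.node (.node (.node tblHS_1_0 tblHS_1_8) (.node tblHS_1_4 tblHS_1_12)) (.node (.node tblHS_1_2 tblHS_1_10) (.node tblHS_1_6 tblHS_1_14))) (.node (.node (.node tblHS_1_1 tblHS_1_9) (.node tblHS_1_5 tblHS_1_13)) (.node (.node tblHS_1_3 tblHS_1_11) (.node tblHS_1_7 tblHS_1_15)))),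
    (.node (.node (.node (.node tblHS_2_0 tblHS_2_8) (.node tblHS_2_4 tblHS_2_12)) (.node (.node tblHS_2_2 tblHS_2_10) (.node tblHS_2_6 tblHS_2_14))) (.node (.node (.node tblHS_2_1 tblHS_2_9) (.node tblHS_2_5 tblHS_2_13)) (.node (.node tblHS_2_3 tblHS_2_11) (.node tblHS_2_7 tblHS_2_15)))),
    (.node (.node (.node (.node tblHS_3_0 tblHS_3_8) (.node tblHS_3_4 tblHS_3_12)) (.node (.node tblHS_3_2 tblHS_3_10) (.node tblHS_3_6 tblHS_3_14))) (.node (.node (.node tblHS_3_1 tblHS_3_9) (.node tblHS_3_5 tblHS_3_13)) (.node (.node tblHS_3_3 tblHS_3_11) (.node tblHS_3_7 tblHS_3_15)))),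
    (.node (.node (.node (.node tblHS_4_0 tblHS_4_8) (.node tblHS_4_4 tblHS_4_12)) (.node (.node tblHS_4_2 tblHS_4_10) (.node tblHS_4_6 tblHS_4_14))) (.node (.node (.node tblHS_4_1 tblHS_4_9) (.node tblHS_4_5 tblHS_4_13)) (.node (.node tblHS_4_3 tblHS_4_11) (.node tblHS_4_7 tblHS_4_15)))),
    (.node (.node (.node (.node tblHS_5_0 tblHS_5_8) (.node tblHS_5_4 tblHS_5_12)) (.node (.node tblHS_5_2 tblHS_5_10) (.node tblHS_5_6 tblHS_5_14))) (.node (.node (.node tblHS_5_1 tblHS_5_9) (.node tblHS_5_5 tblHS_5_13)) (.node (.node tblHS_5_3 tblHS_5_11) (.node tblHS_5_7 tblHS_5_15)))),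
    (.node (.node (.node (.node tblHS_6_0 tblHS_6_8) (.node tblHS_6_4 tblHS_6_12)) (.node (.node tblHS_6_2 tblHS_6_10) (.node tblHS_6_6 tblHS_6_14))) (.node (.node (.node tblHS_6_1 tblHS_6_9) (.node tblHS_6_5 tblHS_6_13)) (.node (.node tblHS_6_3 tblHS_6_11) (.node tblHS_6_7 tblHS_6_15)))),
    (.node (.node (.node (.node tblHS_7_0 tblHS_7_8) (.node tblHS_7_4 tblHS_7_12)) (.node (.node tblHS_7_2 tblHS_7_10) (.node tblHS_7_6 tblHS_7_14))) (.node (.node (.node tblHS_7_1 tblHS_7_9) (.node tblHS_7_5 tblHS_7_13)) (.node (.node tblHS_7_3 tblHS_7_11) (.node tblHS_7_7 tblHS_7_15)))),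
    (.node (.node (.node (.node tblHS_8_0 tblHS_8_8) (.node tblHS_8_4 tblHS_8_12)) (.node (.node tblHS_8_2 tblHS_8_10) (.node tblHS_8_6 tblHS_8_14))) (.node (.node (.node tblHS_8_1 tblHS_8_9) (.node tblHS_8_5 tblHS_8_13)) (.node (.node tblHS_8_3 tblHS_8_11) (.node tblHS_8_7 tblHS_8_15))))]
  eqs := [.assoc [0] 36,
    .assoc [1] 28,
    .assoc [1] 36,
    .assoc [1] 37,
    .assoc [2] 21,
    .assoc [2] 28,
    .assoc [2] 29,
    .assoc [2] 36,
    .assoc [2] 37,
    .assoc [2] 38,
    .assoc [3] 15,
    .assoc [3] 21,
    .assoc [3] 28,
    .assoc [3] 36,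
    .assoc [3] 37,
    .assoc [3] 38,
    .assoc [3] 39,
    .assoc [4] 15,
    .assoc [4] 16,
    .assoc [4] 21,
    .assoc [4] 28,
    .assoc [4] 29,
    .assoc [4] 30,
    .assoc [4] 31,
    .assoc [4] 36,
    .assoc [4] 37,
    .assoc [4] 38,
    .assoc [4] 39,
    .assoc [5] 16,
    .assoc [5] 36,
    .assoc [5] 37,
    .assoc [6] 36,
    .conj 0 [(0, 0), (12, 326), (80, 52), (92, 114), (256, 336), (268, 22)] [(80, 12), (92, 12), (256, 12), (268, 12)],
    .conj 0 [(0, 0), (12, 326), (16, 90), (28, 40)] [(28, 12), (12, 16)],
    .conj 0 [(0, 0), (16, 90), (36, 70), (52, 120)] [(36, 16), (52, 36)],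
    .conj 0 [(0, 0), (12, 326), (132, 446), (136, 204)] [(132, 12), (12, 132)],
    .conj 0 [(0, 0), (12, 326), (36, 70), (132, 446), (136, 204), (240, 156), (508, 138)] [(132, 12), (240, 12), (136, 36), (36, 132)],
    .conj 1 [(0, 0), (2, 491), (8, 327), (10, 248)] [(10, 2), (2, 8)]]
  gauge := [0, 0, 13194139533312, 14224931684352, 4535485464576, 68719476736, 4810363371520, 0, 14018773254144]
  comb := [786528, 67319133781, 139138946, 30276842432, 110401299888, 367650, 30537649680, 4829131423, 7000941534, 268602880, 30276940240, 4829663055, 463394, 108013194573, 524384, 110411129841, 110766313715, 106144825020, 110765759123, 144782751, 70178, 107973405043, 107973442353, 31928031376, 108706910044, 31927569106, 108728581363, 112, 21748906402, 108387313758, 110433630924, 179918789180, 174208217203, 239775063970, 141618109728, 108388099116, 0, 0, 0, 0, 25904801730, 30206291491, 0, 0, 395335949]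

/-- The commuting pair. -/
def pairX : ℕ := 31

/-- The commuting pair. -/
def pairY : ℕ := 12

/-- Where the pair appears. -/
def extraHS : List Bool := [false, true, false, false, false, false, false, false, true, false, false, false, false, false, false, false, false, false, false, true, false, true, true, false, true, false, true, false, true, true, true, true, true, false, false, true, false, false, false, false, false, false, false, false, false]

/-- Normal forms by increasing key. -/
def orderHS : List ℕ := [237, 127, 393, 99, 241, 263, 331, 453, 448, 298, 102, 232, 220, 334, 420, 82, 69, 135, 369, 483, 345, 411, 175, 61, 5, 73, 247, 147, 353, 443, 399, 381, 96, 490, 328, 166, 124, 260, 478, 194, 384, 10, 34, 460, 436, 278, 366, 424, 74, 160, 188, 382, 6, 472, 354, 404, 362, 224, 388, 374, 274, 428, 152, 350, 32, 202, 178, 8, 276, 364, 470, 510, 199, 139, 309, 29, 495, 121, 257, 499, 9, 203, 365, 511, 277, 471, 179, 33, 138, 256, 494, 28, 198, 498, 120, 308, 426, 320, 292, 462, 386, 438, 268, 312, 305, 301, 143, 187, 85, 403, 503, 25, 419, 447, 285, 53, 219, 1, 377, 151, 98,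 452, 392, 262, 126, 236, 330, 240, 38, 252, 456, 58, 14, 432, 212, 66, 168, 318, 326, 180, 204, 114, 90, 128, 264, 430, 390, 288, 108, 20, 226, 154, 183, 373, 207, 349, 171, 361, 273, 131, 211, 93, 251, 117, 159, 17, 105, 231, 289, 431, 21, 155, 109, 227, 391, 265, 230, 92, 104, 210, 158, 250, 16, 116, 242, 356, 454, 40, 238, 394, 76, 336, 281, 341, 235, 223, 45, 423, 451, 49, 396, 310, 122, 244, 144, 258, 440, 30, 500, 338, 78, 140, 184, 358, 400, 42, 475, 407, 297, 81, 163, 101, 333, 191, 507, 57, 467, 65, 487, 37, 13, 415, 156, 70, 62, 208, 248, 346, 370, 228, 60, 134, 174, 68, 344, 368, 410, 482, 270, 408, 172, 322, 294, 132, 480, 314, 342, 492, 496, 50, 282, 196, 46, 136, 484, 290, 266, 504, 464, 110, 22, 412, 324, 434, 458, 316, 112, 88, 254, 214, 18, 468, 176, 94, 106, 200, 508, 118, 302, 216, 148, 26, 306, 416, 86, 444, 488, 286, 2, 192, 164, 378, 476, 54, 72, 398, 352, 146, 4, 380, 442, 246, 340, 450, 44, 222, 280, 48, 422, 234, 300, 502, 84, 186, 304, 24, 402, 142, 463, 321, 439, 313, 387, 269, 293, 427, 239, 243, 337, 41, 455, 77, 357, 395, 125, 97, 195, 167, 329, 479, 491,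 261, 317, 435, 89, 215, 113, 255, 459, 325, 406, 332, 162, 80, 474, 190, 100, 296, 414, 56, 12, 506, 486, 466, 36, 64, 130, 372, 272, 182, 170, 206, 360, 348, 446, 376, 218, 52, 418, 150, 0, 284, 197, 283, 497, 343, 137, 51, 47, 493, 173, 133, 315, 323, 409, 295, 481, 271, 379, 165, 3, 489, 55, 193, 477, 287, 63, 347, 229, 209, 71, 249, 371, 157, 259, 145, 123, 397, 31, 245, 441, 311, 473, 7, 189, 75, 405, 383, 355, 161, 457, 433, 67, 59, 253, 15, 213, 39, 359, 185, 79, 501, 43, 141, 401, 339, 35, 279, 425, 461, 11, 437, 367, 385, 177, 201, 119, 95, 469, 107, 509, 19, 417, 307, 149, 303, 445, 27, 87, 217, 327, 115, 129, 181, 319, 205, 91, 169, 335, 221, 103, 449, 83, 233, 421, 299, 267, 111, 413, 505, 291, 465, 23, 485, 389, 429, 351, 375, 225, 275, 153, 363]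

/-- Points for the keys. -/
def ptsHS : List ℕ := [74, 78]

end CfsgLib.HSMult
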